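import Groth.Agent.L10.ShriekLoc.LocalBase
import Groth.Agent.L10.ShriekLoc.LocalCM
import Groth.Agent.L07.SyntCM
import Groth.Agent.L06.GenericFibreDim
import Groth.Agent.L19.Pinch.Sheaf
import Groth.Agent.L29.DCoh.Gen.RpushTri

/-!
# The degree of the relative dualizing complex of a Cohen–Macaulay scheme proper over a local ring
-/

set_option autoImplicit false
set_option backward.defeqAttrib.useBackward true
set_option backward.isDefEq.respectTransparency false
set_option backward.isDefEq.respectTransparency.types false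
set_option linter.style.haveILetI false
set_option linter.unusedSectionVars false

universe u

open CategoryTheory CategoryTheory.Limits CategoryTheory.Pretriangulated AlgebraicGeometry
attribute [local instance] HasDerivedCategory.standard

noncomputable section

namespace Groth.L17.LocDual

open Groth.L29 Groth.L29.DC

/-- A generalisation has a smaller local ring. -/
theorem ringKrullDim_stalk_mono {Y : Scheme.{u}} {x y : Y} (h : x ⤳ y) :
    ringKrullDim (Y.presheaf.stalk x) ≤ ringKrullDim (Y.presheaf.stalk y) := by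
  refine Order.krullDim_le_of_strictMono (PrimeSpectrum.comap (Y.presheaf.stalkSpecializes h).hom)
    (Monotone.strictMono_of_injective (fun P Q hPQ => Ideal.comap_mono hPQ) fun P Q hPQ => ?_)
  refine (Y.fromSpecStalk x).isEmbedding.injective ?_
  rw [← Scheme.SpecMap_stalkSpecializes_fromSpecStalk h, Scheme.Hom.comp_apply, Scheme.Hom.comp_apply]
  exact congrArg _ hPQ

variable {A : Type u} [CommRing A]

/-- Right adjoints on `D_QCoh` commute with shifts, objectwise. -/
theorem exists_shift_iso {X S : Scheme.{u}} {f : X ⟶ S} [DCoh.HasRpush f] {h : DCoh.RpushPreservesQCoh f}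
    {a : DCoh.DQCoh S ⥤ DCoh.DQCoh X} (adj : DCoh.RpushQ f h ⊣ a) (W W' : DCoh.DQCoh S) (c : ℤ)
    (e : W'.obj ≅ W.obj⟦c⟧) : Nonempty ((a.obj W').obj ≅ (a.obj W).obj⟦c⟧) := by
  letI := Gen.commShiftRpush f
  let KX : DCoh.DQCoh X := ⟨(a.obj W).obj⟦c⟧, Gen.isQCohD_shift (a.obj W).property c⟩
  let ε : (DCoh.Rpush f).obj KX.obj ⟶ W'.obj :=
    ((DCoh.Rpush f).commShiftIso c).hom.app _ ≫ ((adj.counit.app W).hom)⟦c⟧' ≫ e.inv
  have hcount : ∀ (Q : DCoh.DQCoh X) (V : DCoh.DQCoh S) (w : Q ⟶ a.obj V),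
      ((adj.homEquiv Q V).symm w).hom = (DCoh.Rpush f).map w.hom ≫ (adj.counit.app V).hom := fun Q V w => by
    rw [Adjunction.homEquiv_counit]
    rfl
  have hε : ∀ Q : DCoh.DQCoh X,
      Function.Bijective fun v : Q.obj ⟶ KX.obj => (DCoh.Rpush f).map v ≫ ε := by
    intro Q
    let V' : DCoh.DQCoh X := ⟨Q.obj⟦-c⟧, Gen.isQCohD_shift Q.property (-c)⟩
    let e' : V'.obj⟦c⟧ ≅ Q.obj := (shiftFunctorCompIsoId (DCoh.D X) (-c) c (by omega)).app Q.obj
    let c₁ : (DCoh.Rpush f).obj (V'.obj⟦c⟧) ≅ ((DCoh.Rpush f).obj V'.obj)⟦c⟧ :=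
      ((DCoh.Rpush f).commShiftIso c).app V'.obj
    have hw : Function.Bijective fun w : V' ⟶ a.obj W => e'.inv ≫ w.hom⟦c⟧' :=
      ⟨fun p q hpq => ObjectProperty.hom_ext _
        ((shiftFunctor (DCoh.D X) c).map_injective ((cancel_epi e'.inv).1 hpq)), fun v => by
        obtain ⟨w, hw⟩ := (shiftFunctor (DCoh.D X) c).map_surjective (e'.hom ≫ v)
        refine ⟨ObjectProperty.homMk w, ?_⟩
        dsimp only
        change e'.inv ≫ w⟦c⟧' = v
        rw [hw, e'.inv_hom_id_assoc]⟩
    have hm : Function.Bijective fun z : (DCoh.RpushQ f h).obj V' ⟶ W =>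
        (DCoh.Rpush f).map e'.inv ≫ c₁.hom ≫ z.hom⟦c⟧' ≫ e.inv :=
      ⟨fun p q hpq => ObjectProperty.hom_ext _ ((shiftFunctor _ c).map_injective ((cancel_mono e.inv).1
        ((cancel_epi c₁.hom).1 ((cancel_epi ((DCoh.Rpush f).map e'.inv)).1 hpq)))), fun v => by
        obtain ⟨z, hz⟩ := (shiftFunctor (DCoh.D S) c).map_surjective
          (c₁.inv ≫ (DCoh.Rpush f).map e'.hom ≫ v ≫ e.hom)
        refine ⟨ObjectProperty.homMk z, ?_⟩
        dsimp only
        change _ ≫ _ ≫ z⟦c⟧' ≫ _ = v
        rw [hz]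
        simp only [Category.assoc, Iso.hom_inv_id, Category.comp_id, Iso.hom_inv_id_assoc,
          ← Functor.map_comp_assoc, Iso.inv_hom_id, CategoryTheory.Functor.map_id, Category.id_comp]⟩
    refine (Function.Bijective.of_comp_iff _ hw).1 ?_
    rw [show (fun v : Q.obj ⟶ KX.obj => (DCoh.Rpush f).map v ≫ ε) ∘
        (fun w : V' ⟶ a.obj W => e'.inv ≫ w.hom⟦c⟧') =
        (fun z => (DCoh.Rpush f).map e'.inv ≫ c₁.hom ≫ z.hom⟦c⟧' ≫ e.inv) ∘ (adj.homEquiv V' W).symm from
      funext fun w => by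
        simp only [Function.comp_apply, hcount, ε, c₁, Functor.map_comp, Category.assoc, Iso.app_hom]
        refine congrArg (_ ≫ ·) ?_
        exact ((DCoh.Rpush f).commShiftIso c).hom.naturality_assoc w.hom _]
    exact hm.comp (adj.homEquiv V' W).symm.bijective
  obtain ⟨p, hp⟩ := (hε (a.obj W')).2 (adj.counit.app W').hom
  let q : KX ⟶ a.obj W' := adj.homEquiv KX W' (ObjectProperty.homMk ε)
  have hq : (DCoh.Rpush f).map q.hom ≫ (adj.counit.app W').hom = ε := by
    rw [← hcount, Equiv.symm_apply_apply]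
    rfl
  refine ⟨⟨p, q.hom, ?_, (hε KX).1 ?_⟩⟩
  · refine congrArg (fun z : a.obj W' ⟶ a.obj W' => z.hom) (a₁ := ObjectProperty.homMk (p ≫ q.hom)) (a₂ := 𝟙 _) ?_
    refine (adj.homEquiv _ _).symm.injective (ObjectProperty.hom_ext _ ?_)
    rw [hcount, hcount]
    change (DCoh.Rpush f).map (p ≫ q.hom) ≫ _ = (DCoh.Rpush f).map (𝟙 _) ≫ _
    rw [Functor.map_comp, Category.assoc, hq, CategoryTheory.Functor.map_id, Category.id_comp]
    exact hp
  · dsimp only
    rw [Functor.map_comp, Category.assoc, CategoryTheory.Functor.map_id, Category.id_comp]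
    exact (congrArg (_ ≫ ·) hp).trans hq

variable [IsLocalRing A] [IsNoetherianRing A] [PreservesFiniteLimits (tilde.functor (CommRingCat.of A))]
  {X : Scheme.{u}} {f : X ⟶ Spec (CommRingCat.of A)} [IsProper f] [DCoh.HasRpush f]
  {h : DCoh.RpushPreservesQCoh f} {a : DCoh.DQCoh (Spec (CommRingCat.of A)) ⥤ DCoh.DQCoh X}
  (adj : DCoh.RpushQ f h ⊣ a)

include adj in
/-- For a normalized dualizing complex the single degree of the relative dualizing complex is minus the dimension. -/
theorem degree_eq (W : DCoh.DQCoh (Spec (CommRingCat.of A))) (ω : Dual.D A) (hω : Dual.IsDualizing A ω)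
    (hn : Dual.IsNormalized A ω) (hW : Nonempty (W.obj ≅ (DCoh.tildeD (CommRingCat.of A)).obj ω))
    (hCM : ∀ x : X, LocCoh.IsCohenMacaulayLocalRing (X.presheaf.stalk x))
    (d : ℤ) (hconc : ∀ j : ℤ, j ≠ d → IsZero (DCoh.HD (a.obj W).obj j))
    (n : ℕ) (hdim : topologicalKrullDim X = n) : d = -(n : ℤ) := by
  haveI := fun R : CommRingCat.{u} => Groth.L18.TildeF.tilde_preservesFiniteLimits (R := R)
  haveI : IsLocallyNoetherian X := LocallyOfFiniteType.isLocallyNoetherian f
  have key : ∀ x : X, ∃ e : ℕ, d = -(e : ℤ) ∧ (∃ y : X, ringKrullDim (X.presheaf.stalk y) = e) ∧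
      ringKrullDim (X.presheaf.stalk x) ≤ e := by
    intro x
    obtain ⟨B, _, _, jU, _, η, q, m, hqx, hqm, -, hη, hηn, ⟨eη⟩⟩ :=
      Groth.L10.ShriekLoc.exists_chart_closed ω hω hn adj W hW x
    haveI : Module.Flat B (Localization.AtPrime m.asIdeal) := IsLocalization.flat _ m.asIdeal.primeCompl
    let Bm := Localization.AtPrime m.asIdeal
    let ηm := (FlatBC.L B Bm).obj η
    have hηm : Dual.IsDualizing Bm ηm := FlatBC.isDualizing_L_localization m.asIdeal.primeCompl hη
    have hz : ∀ i : ℤ, i ≠ d → Subsingleton (Dual.HD Bm ηm i) := fun i hi => by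
      have h1 : IsZero ((tilde.functor (CommRingCat.of B)).obj ((Groth.L02.PC.HH i).obj η)) :=
        (((Scheme.Modules.restrictFunctor jU).map_isZero (hconc i hi)).of_iso (HDResIso jU _ i)).of_iso
          ((DerivedCategory.homologyFunctor _ i).mapIso eη ≪≫
            TildeAlg.hdIso (R := CommRingCat.of B) η i).symm
      haveI : Subsingleton (Dual.HD B η i) :=
        Groth.L19.Pinch.subsingleton_of_isZero_tilde (R := CommRingCat.of B) ((Groth.L02.PC.HH i).obj η) h1
      exact (FlatBC.hEquiv B Bm η i).toEquiv.subsingleton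
    -- the chart ring at `m` is the local ring
    let ρ : X.presheaf.stalk (jU m) ≃+* Bm := by
      letI : Algebra B ((Spec (CommRingCat.of B)).presheaf.stalk m) :=
        (Groth.L00.KFlat.toStalk (CommRingCat.of B) m).toAlgebra
      haveI := TorTest.isLocalization_toStalk (R := CommRingCat.of B) m
      exact (asIso (jU.stalkMap m)).commRingCatIsoToRingEquiv.trans
        (IsLocalization.algEquiv m.asIdeal.primeCompl ((Spec (CommRingCat.of B)).presheaf.stalk m) Bm).toRingEquiv
    haveI hcmB : LocCoh.IsCohenMacaulayLocalRing Bm := Groth.L07.Synt.isCM_ringEquiv ρ (hCM (jU m))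
    obtain ⟨e, he⟩ := Groth.L01.exists_dim_eq_nat (R := Bm)
    have hnt := (Groth.L10.ShriekLoc.cm_module_of_single ηm hηm d hz).1
    have hCMmod : LocCoh.IsCohenMacaulayModule Bm Bm := hcmB.supportDim_eq_depth
    have hsd : Module.supportDim Bm Bm = e := (Module.supportDim_self_eq_ringKrullDim (R := Bm)).trans he
    have hvan := (Groth.Agent.S0368.result Bm ηm hηm hηn Bm e hsd).1 hCMmod
    have hde : d = -(e : ℤ) := by
      by_contra hne
      have h1 : Subsingleton (Dual.inD Bm Bm ⟶ ηm⟦(-(-d))⟧) := hvan (-d) (by omega)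
      rw [neg_neg] at h1
      haveI : Subsingleton (Dual.HD Bm ηm d) := (HomD.evalShiftEquiv (W := ηm) d).symm.toEquiv.subsingleton
      exact not_subsingleton (Dual.HD Bm ηm d) inferInstance
    refine ⟨e, hde, ⟨jU m, (ringKrullDim_eq_of_ringEquiv ρ).trans he⟩, ?_⟩
    -- generalisations have smaller local rings
    have hsp : x ⤳ jU m := hqx ▸ ((PrimeSpectrum.le_iff_specializes q m).1 hqm).map jU.continuous
    refine le_trans ?_ ((ringKrullDim_eq_of_ringEquiv ρ).trans he).le
    exact ringKrullDim_stalk_mono hsp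
  have hsup : (⨆ y : X, ringKrullDim (X.presheaf.stalk y)) = topologicalKrullDim X :=
    le_antisymm (iSup_le fun y => (PrimeSpectrum.topologicalKrullDim_eq_ringKrullDim _).symm.le.trans
        (X.fromSpecStalk y).isEmbedding.isInducing.topologicalKrullDim_le)
      (Groth.L19.DimTrdeg.dim_le_of_stalks fun y => le_iSup (fun y => ringKrullDim (X.presheaf.stalk y)) y)
  haveI : Nonempty X := by
    by_contra hX
    rw [not_nonempty_iff] at hX
    rw [← hsup, iSup_of_empty] at hdim
    exact absurd hdim.symm (by simp)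
  obtain ⟨x₀⟩ := ‹Nonempty X›
  obtain ⟨e, hde, ⟨y, hy⟩, -⟩ := key x₀
  have : (e : WithBot ℕ∞) = n := by
    rw [← hdim, ← hsup]
    refine le_antisymm (hy ▸ le_iSup (fun y : X => ringKrullDim (X.presheaf.stalk y)) y) (iSup_le fun x => ?_)
    obtain ⟨e', hde', -, hle⟩ := key x
    obtain rfl : e' = e := by omega
    exact hle
  have h2 : e = n := by exact_mod_cast this
  omega

end Groth.L17.LocDual
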