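import Groth.Agent.L17.LocDual.Corep
import Groth.Agent.L29.Dual.LocalDualityPairing
import Groth.Agent.L29.Sib.QCohInj
import Groth.Agent.L18.LocFreeTilde
import Groth.Agent.L29.DCoh.TildeD
import Groth.Agent.L29.Dual.Devissage

/-!
# Local cohomology of the punctured spectrum as a colimit in the derived category of modules
-/

set_option autoImplicit false
set_option backward.defeqAttrib.useBackward true
set_option backward.isDefEq.respectTransparency false
set_option backward.isDefEq.respectTransparency.types false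
set_option linter.style.haveILetI false
set_option linter.unusedSectionVars false

universe u

open CategoryTheory CategoryTheory.Limits CategoryTheory.Pretriangulated CategoryTheory.Abelian AlgebraicGeometry
  IsLocalRing Opposite TopologicalSpace
attribute [local instance] HasDerivedCategory.standard
open Groth.L18.Frame (rs rs_rs rs_self)
open Groth.L29.LocDual (Q P res_comp res_refl)
open Groth.L29.LocDual renaming res → pres, proj → pproj

noncomputable section

namespace Groth.L17.LocDual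

section Torsion

variable {R : CommRingCat.{u}} (M : ModuleCat.{u} R) (I : Ideal R)

/-- The global section of `M~` attached to an element. -/
def glob (m : M) : Γ(tilde M, ⊤) :=
  (tilde.toOpen M ⊤).hom m

theorem rs_glob (m : M) (V : (Spec R).Opens) :
    rs (tilde M) (le_top : V ≤ ⊤) (glob M m) =
      (tilde.toOpen M V).hom m :=
  congr($(tilde.toOpen_res M ⊤ V (homOfLE le_top)).hom m)

theorem rs_glob_basicOpen_eq_zero_iff (m : M) (f : R) :
    rs (tilde M) (le_top : PrimeSpectrum.basicOpen f ≤ ⊤) (glob M m) = 0 ↔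
      ∃ n : ℕ, f ^ n • m = 0 := by
  rw [rs_glob]
  refine (IsLocalizedModule.eq_zero_iff (Submonoid.powers f)
    (tilde.toOpen M (PrimeSpectrum.basicOpen f)).hom).trans ?_
  exact ⟨fun ⟨⟨c, n, hn⟩, hc⟩ => ⟨n, by rw [show f ^ n = c from hn]; exact hc⟩,
    fun ⟨n, hn⟩ => ⟨⟨f ^ n, n, rfl⟩, hn⟩⟩

theorem basicOpen_le_puncturedOpen {f : R} (hf : f ∈ I) :
    PrimeSpectrum.basicOpen f ≤ LocCoh.puncturedOpen R I := fun p hp hI => hp (hI hf)

theorem rs_glob_punctured_eq_zero {m : M} (k : ℕ) (h : ∀ a ∈ I ^ k, a • m = 0) :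
    rs (tilde M) (le_top : LocCoh.puncturedOpen R I ≤ ⊤) (glob M m) = 0 := by
  refine TopCat.Sheaf.eq_of_locally_eq'
    ((Groth.L21.Mod.toAbSh (Spec R)).obj (tilde M))
    (fun f : I => PrimeSpectrum.basicOpen (f : R)) (LocCoh.puncturedOpen R I)
    (fun f => homOfLE (basicOpen_le_puncturedOpen I f.2)) ?_ _ _ fun f => ?_
  · intro p hp
    obtain ⟨f, hfI, hfp⟩ := SetLike.not_le_iff_exists.1 (show ¬ I ≤ p.asIdeal from hp)
    exact Opens.mem_iSup.2 ⟨⟨f, hfI⟩, hfp⟩
  · change rs (tilde M) (basicOpen_le_puncturedOpen I f.2)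
        (rs (tilde M) (le_top : LocCoh.puncturedOpen R I ≤ ⊤) (glob M m)) =
      rs (tilde M) (basicOpen_le_puncturedOpen I f.2) 0
    refine (rs_rs (tilde M) _ _ _).trans (Eq.trans ?_ (map_zero _).symm)
    exact (rs_glob_basicOpen_eq_zero_iff M m f).2 ⟨k, h _ (Ideal.pow_mem_pow f.2 k)⟩

theorem exists_pow_smul_eq_zero (hI : I.FG) {m : M}
    (h : rs (tilde M) (le_top : LocCoh.puncturedOpen R I ≤ ⊤) (glob M m) = 0) :
    ∃ k : ℕ, ∀ a ∈ I ^ k, a • m = 0 := by
  obtain ⟨k, hk⟩ := Ideal.exists_pow_le_of_le_radical_of_fg (I := I)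
    (J := LinearMap.ker (LinearMap.toSpanSingleton R M m)) (fun f hf => by
      have h' : rs (tilde M) (le_top : PrimeSpectrum.basicOpen f ≤ ⊤) (glob M m) = 0 :=
        (rs_rs (tilde M) (le_top : LocCoh.puncturedOpen R I ≤ ⊤) (basicOpen_le_puncturedOpen I hf) _).symm.trans
          ((congrArg _ h).trans (map_zero _))
      obtain ⟨n, hn⟩ := (rs_glob_basicOpen_eq_zero_iff M m f).1 h'
      exact ⟨n, hn⟩) hI
  exact ⟨k, fun a ha => hk ha⟩

theorem glob_bijective : Function.Bijective (glob M) :=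
  (ConcreteCategory.isIso_iff_bijective (tilde.toOpen M ⊤)).1 inferInstance

theorem app_glob {N : ModuleCat.{u} R} (φ : M ⟶ N) (m : M) :
    ((tilde.functor R).map φ).app ⊤ (glob M m) = glob N (φ.hom m) :=
  congr($(tilde.toOpen_map_app φ ⊤).hom m)

end Torsion

variable (A : Type u) [CommRing A] [IsLocalRing A] [IsNoetherianRing A]

/-- The punctured spectrum. -/
abbrev pun : (Spec (CommRingCat.of A)).Opens := LocCoh.puncturedOpen A (maximalIdeal A)

/-- `CZ ⟶ (A/m^k)~`. -/
def pk (k : ℕ) : CZ (pun A) ⟶ (tilde.functor (CommRingCat.of A)).obj (Q k) :=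
  (exists_secTop (pun A) (M := tilde (R := CommRingCat.of A) (Q k))
    (glob (R := CommRingCat.of A) (Q k) (Submodule.Quotient.mk 1))
    (rs_glob_punctured_eq_zero (R := CommRingCat.of A) (Q k) (maximalIdeal A) k fun a ha => by
      exact (Submodule.Quotient.mk_eq_zero _).2 (Ideal.mul_mem_right _ _ ha))).choose

theorem secTop_pk (k : ℕ) : secTop (pun A) (pk A k) = glob (R := CommRingCat.of A) (Q k) (Submodule.Quotient.mk 1) :=
  (exists_secTop (pun A) (M := tilde (R := CommRingCat.of A) (Q k))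
    (glob (R := CommRingCat.of A) (Q k) (Submodule.Quotient.mk 1))
    (rs_glob_punctured_eq_zero (R := CommRingCat.of A) (Q k) (maximalIdeal A) k fun a ha => by
      exact (Submodule.Quotient.mk_eq_zero _).2 (Ideal.mul_mem_right _ _ ha))).choose_spec

theorem secTop_pk_map {k : ℕ} {M : ModuleCat.{u} A} (φ : Q (A := A) k ⟶ M) :
    secTop (pun A) (pk A k ≫ (tilde.functor (CommRingCat.of A)).map φ) =
      glob (R := CommRingCat.of A) M (φ.hom (Submodule.Quotient.mk 1)) := by
  rw [secTop_comp, secTop_pk]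
  exact app_glob (R := CommRingCat.of A) (Q k) φ _

theorem pk_proj {k l : ℕ} (h : k ≤ l) :
    pk A l ≫ (tilde.functor (CommRingCat.of A)).map (pproj h) = pk A k :=
  secTop_injective _ ((secTop_pk_map A (pproj h)).trans (secTop_pk A k).symm)

theorem pk_map_eq_zero {k : ℕ} {M : ModuleCat.{u} A} (φ : Q (A := A) k ⟶ M)
    (h : pk A k ≫ (tilde.functor (CommRingCat.of A)).map φ = 0) : φ = 0 := by
  have h1 := secTop_pk_map A φ
  rw [h] at h1
  have h2 : glob (R := CommRingCat.of A) M (φ.hom (Submodule.Quotient.mk 1)) = glob (R := CommRingCat.of A) M 0 := h1.symm.trans (map_zero _).symm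
  refine ModuleCat.hom_ext (Submodule.linearMap_qext _ (LinearMap.ext_ring ?_))
  exact (glob_bijective (R := CommRingCat.of A) M).1 h2

theorem exists_pk_map {M : ModuleCat.{u} A}
    (ψ : CZ (pun A) ⟶ (tilde.functor (CommRingCat.of A)).obj M) :
    ∃ (k : ℕ) (φ : Q (A := A) k ⟶ M), pk A k ≫ (tilde.functor (CommRingCat.of A)).map φ = ψ := by
  obtain ⟨m, hm⟩ := (glob_bijective (R := CommRingCat.of A) M).2 (secTop (pun A) ψ)
  obtain ⟨k, hk⟩ := exists_pow_smul_eq_zero (R := CommRingCat.of A) M (maximalIdeal A) (IsNoetherian.noetherian _) (m := m)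
    (by rw [hm]; exact rs_secTop (pun A) ψ)
  refine ⟨k, ModuleCat.ofHom (Submodule.liftQ _ (LinearMap.toSpanSingleton A M m) fun a ha => hk a ha),
    secTop_injective _ ?_⟩
  rw [secTop_pk_map, ← hm]
  exact congrArg (glob (R := CommRingCat.of A) M) (one_smul A m)

omit [IsLocalRing A] [IsNoetherianRing A] in
theorem additive_tilde : (tilde.functor (CommRingCat.of A)).Additive :=
  haveI : PreservesColimitsOfSize.{0, 0} (tilde.functor (CommRingCat.of A)) :=
    tilde.adjunction.leftAdjoint_preservesColimits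
  haveI := preservesBinaryBiproducts_of_preservesBinaryCoproducts (tilde.functor (CommRingCat.of A))
  Functor.additive_of_preservesBinaryBiproducts _

variable [PreservesFiniteLimits (tilde.functor (CommRingCat.of A))]

omit [IsLocalRing A] [IsNoetherianRing A] [PreservesFiniteLimits (tilde.functor (CommRingCat.of A))] in
theorem preservesFiniteColimits_tilde : PreservesFiniteColimits (tilde.functor (CommRingCat.of A)) :=
  haveI : PreservesColimitsOfSize.{0, 0} (tilde.functor (CommRingCat.of A)) :=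
    tilde.adjunction.leftAdjoint_preservesColimits
  inferInstance

attribute [local instance] additive_tilde preservesFiniteColimits_tilde

/-- `CZ` in the derived category. -/
abbrev CD : DCoh.D (Spec (CommRingCat.of A)) := DCoh.inD _ (CZ (pun A))

/-- `CZ ⟶ (A/m^k)~` in the derived category. -/
def pkD (k : ℕ) : CD A ⟶ (DCoh.tildeD (CommRingCat.of A)).obj (P A k) :=
  (DerivedCategory.singleFunctor (Spec (CommRingCat.of A)).Modules 0).map (pk A k) ≫
    ((tilde.functor (CommRingCat.of A)).mapDerivedCategorySingleFunctor 0).inv.app (Q k)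

/-- `x ↦ π_k ≫ x~`. -/
def psi {k : ℕ} {K : Dual.D A} (x : P A k ⟶ K) : CD A ⟶ (DCoh.tildeD (CommRingCat.of A)).obj K :=
  pkD A k ≫ (DCoh.tildeD (CommRingCat.of A)).map x

variable {A}

theorem psi_comp {k : ℕ} {K L : Dual.D A} (x : P A k ⟶ K) (g : K ⟶ L) :
    psi A (x ≫ g) = psi A x ≫ (DCoh.tildeD (CommRingCat.of A)).map g := by
  simp [psi]

theorem psi_res {k l : ℕ} (h : k ≤ l) {K : Dual.D A} (x : P A k ⟶ K) : psi A (pres h ≫ x) = psi A x := by
  rw [psi, Functor.map_comp, ← Category.assoc]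
  refine congrArg (· ≫ (DCoh.tildeD (CommRingCat.of A)).map x) ?_
  rw [pkD, pkD, Category.assoc]
  erw [← ((tilde.functor (CommRingCat.of A)).mapDerivedCategorySingleFunctor 0).inv.naturality (pproj h)]
  rw [← Category.assoc]
  refine congrArg (· ≫ _) ?_
  exact (Functor.map_comp _ _ _).symm.trans (congrArg _ (pk_proj A h))

theorem psi_sub {k : ℕ} {K : Dual.D A} (x y : P A k ⟶ K) : psi A (x - y) = psi A x - psi A y := by
  simp [psi]

/-- surjectivity from the colimit -/
def Surj (K : Dual.D A) : Prop :=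
  ∀ φ : CD A ⟶ (DCoh.tildeD (CommRingCat.of A)).obj K, ∃ (k : ℕ) (x : P A k ⟶ K), psi A x = φ

/-- injectivity from the colimit -/
def Inj (K : Dual.D A) : Prop :=
  ∀ (k : ℕ) (x : P A k ⟶ K), psi A x = 0 → ∃ (l : ℕ) (h : k ≤ l), pres h ≫ x = 0

/-- bijectivity from the colimit -/
def Bij (K : Dual.D A) : Prop := Inj K ∧ Surj K

theorem Bij.of_iso {K L : Dual.D A} (e : K ≅ L) (h : Bij K) : Bij L := by
  refine ⟨fun k y hy => ?_, fun φ => ?_⟩
  · obtain ⟨l, hl, hl'⟩ := h.1 k (y ≫ e.inv) (by rw [psi_comp, hy, zero_comp])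
    exact ⟨l, hl, by rw [← cancel_mono e.inv, Category.assoc, hl', zero_comp]⟩
  · obtain ⟨k, x, hx⟩ := h.2 (φ ≫ (DCoh.tildeD (CommRingCat.of A)).map e.inv)
    exact ⟨k, x ≫ e.hom, by rw [psi_comp, hx, Category.assoc, ← Functor.map_comp, e.inv_hom_id,
      CategoryTheory.Functor.map_id, Category.comp_id]⟩

theorem Bij.of_isZero {K : Dual.D A} (h : IsZero K) : Bij K :=
  ⟨fun k _ _ => ⟨k, le_rfl, h.eq_of_tgt _ _⟩, fun φ => ⟨0, 0, by
    rw [psi, Functor.map_zero, comp_zero]
    exact ((DCoh.tildeD (CommRingCat.of A)).map_isZero h).eq_of_tgt _ _⟩⟩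

theorem bij_of_subsingleton {K : Dual.D A} (h1 : ∀ k, Subsingleton (P A k ⟶ K))
    (h2 : Subsingleton (CD A ⟶ (DCoh.tildeD (CommRingCat.of A)).obj K)) : Bij K :=
  ⟨fun k _ _ => ⟨k, le_rfl, (h1 k).elim _ _⟩, fun _ => ⟨0, 0, h2.elim _ _⟩⟩

section Triangle

variable (T : Triangle (Dual.D A)) (hT : T ∈ distTriang (Dual.D A))

include hT in
theorem inj_mid (h0 : Surj T.invRotate.obj₁) (h1 : Inj T.obj₁) (h3 : Inj T.obj₃) : Inj T.obj₂ := by
  intro k x hx
  obtain ⟨l, hl, hl0⟩ := h3 k (x ≫ T.mor₂) (by rw [psi_comp, hx, zero_comp])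
  obtain ⟨y, hy⟩ := Triangle.coyoneda_exact₂ T hT (pres hl ≫ x) (by rw [Category.assoc, hl0])
  have hy0 : psi A y ≫ (DCoh.tildeD (CommRingCat.of A)).map T.mor₁ = 0 := by
    rw [← psi_comp, ← hy, psi_res, hx]
  obtain ⟨z, hz⟩ := Triangle.coyoneda_exact₂ _
    ((DCoh.tildeD (CommRingCat.of A)).map_distinguished _ (inv_rot_of_distTriang _ hT)) (psi A y) hy0
  obtain ⟨m, w, hw⟩ := h0 z
  let δ : T.invRotate.obj₁ ⟶ T.obj₁ := T.invRotate.mor₁
  have hδ : δ ≫ T.mor₁ = 0 := comp_distTriang_mor_zero₁₂ _ (inv_rot_of_distTriang _ hT)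
  obtain ⟨n, hn, hn0⟩ := h1 (max l m) (pres (le_max_left l m) ≫ y - (pres (le_max_right l m) ≫ w) ≫ δ) (by
    rw [psi_sub, psi_res, psi_comp, psi_res, hw, hz]
    exact sub_self _)
  refine ⟨n, hl.trans ((le_max_left l m).trans hn), ?_⟩
  rw [Preadditive.comp_sub, sub_eq_zero, ← Category.assoc, res_comp] at hn0
  rw [← res_comp hl ((le_max_left l m).trans hn), Category.assoc, hy, ← Category.assoc, hn0]
  simp only [Category.assoc, hδ, comp_zero]

include hT in
theorem surj_mid (h3 : Surj T.obj₃) (h4 : Inj (T.obj₁⟦(1 : ℤ)⟧)) (h1 : Surj T.obj₁) : Surj T.obj₂ := by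
  intro φ
  obtain ⟨k, y, hy⟩ := h3 (φ ≫ (DCoh.tildeD (CommRingCat.of A)).map T.mor₂)
  obtain ⟨l, hl, hl0⟩ := h4 k (y ≫ T.mor₃) (by
    rw [psi_comp, hy, Category.assoc, ← Functor.map_comp, comp_distTriang_mor_zero₂₃ T hT, Functor.map_zero,
      comp_zero])
  obtain ⟨x, hx⟩ := Triangle.coyoneda_exact₃ T hT (pres hl ≫ y) (by rw [Category.assoc, hl0])
  obtain ⟨z, hz⟩ := Triangle.coyoneda_exact₂ _
    ((DCoh.tildeD (CommRingCat.of A)).map_distinguished T hT) (φ - psi A x) (by
      change (φ - psi A x) ≫ (DCoh.tildeD (CommRingCat.of A)).map T.mor₂ = 0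
      rw [Preadditive.sub_comp, ← psi_comp, ← hx, psi_res, hy, sub_self])
  obtain ⟨m, w, hw⟩ := h1 z
  refine ⟨max l m, pres (le_max_left l m) ≫ x + (pres (le_max_right l m) ≫ w) ≫ T.mor₁, ?_⟩
  have hadd : ∀ {k : ℕ} (a b : P A k ⟶ T.obj₂), psi A (a + b) = psi A a + psi A b := fun a b => by simp [psi]
  rw [hadd, psi_res, psi_comp, psi_res, hw]
  exact (eq_sub_iff_add_eq'.1 hz.symm)

include hT in
theorem surj_mid_zero (h3 : Subsingleton (CD A ⟶ (DCoh.tildeD (CommRingCat.of A)).obj T.obj₃))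
    (h1 : Surj T.obj₁) : Surj T.obj₂ := fun φ => by
  obtain ⟨z, hz⟩ := Triangle.coyoneda_exact₂ _
    ((DCoh.tildeD (CommRingCat.of A)).map_distinguished T hT) φ (h3.elim _ _)
  obtain ⟨m, w, hw⟩ := h1 z
  exact ⟨m, w ≫ T.mor₁, by rw [psi_comp, hw]; exact hz.symm⟩

theorem bij_second (hT : T ∈ distTriang (Dual.D A)) (h1 : ∀ n : ℤ, Bij (T.obj₁⟦n⟧))
    (h3 : ∀ n : ℤ, Bij (T.obj₃⟦n⟧)) : ∀ n : ℤ, Bij (T.obj₂⟦n⟧) := fun n => by
  have hTn := Triangle.shift_distinguished _ hT n
  refine ⟨inj_mid _ hTn ?_ (h1 n).1 (h3 n).1, surj_mid _ hTn (h3 n).2 ?_ (h1 n).2⟩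
  · exact (Bij.of_iso ((shiftFunctorAdd' (Dual.D A) n (-1) (n - 1) rfl).app T.obj₃) (h3 (n - 1))).2
  · exact (Bij.of_iso ((shiftFunctorAdd' (Dual.D A) n 1 (n + 1) rfl).app T.obj₁) (h1 (n + 1))).1

end Triangle

/-- the sheaf side of a shifted module -/
def eS (M : ModuleCat.{u} A) (n : ℤ) :
    (DCoh.tildeD (CommRingCat.of A)).obj (((DerivedCategory.singleFunctor (ModuleCat.{u} A) 0).obj M)⟦n⟧) ≅
      ((DerivedCategory.singleFunctor (Spec (CommRingCat.of A)).Modules 0).obj
        ((tilde.functor (CommRingCat.of A)).obj M))⟦n⟧ :=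
  ((DCoh.tildeD (CommRingCat.of A)).commShiftIso n).app _ ≪≫
    (shiftFunctor (DCoh.D (Spec (CommRingCat.of A))) n).mapIso
      (((tilde.functor (CommRingCat.of A)).mapDerivedCategorySingleFunctor 0).app M)

theorem bij_neg (M : ModuleCat.{u} A) (n : ℤ) (hn : n < 0) :
    Bij (((DerivedCategory.singleFunctor (ModuleCat.{u} A) 0).obj M)⟦n⟧) := by
  refine bij_of_subsingleton (fun k => Groth.L29.LocDual.subsingleton_single_neg (Q k) M n hn) ?_
  refine @Equiv.subsingleton _ _ (Iso.homCongr (Iso.refl _) (eS M n)) ?_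
  let N := ((DerivedCategory.singleFunctor (Spec (CommRingCat.of A)).Modules 0).obj
    ((tilde.functor (CommRingCat.of A)).obj M))
  haveI : (N⟦n⟧).IsGE (0 - n) := DerivedCategory.TStructure.t.isGE_shift N 0 n (0 - n) (by omega)
  exact subsingleton_of_forall_eq 0 fun f =>
    DerivedCategory.TStructure.t.zero_of_isLE_of_isGE f 0 (0 - n) (by omega) inferInstance inferInstance

theorem bij_zero' (M : ModuleCat.{u} A) : Bij ((DerivedCategory.singleFunctor (ModuleCat.{u} A) 0).obj M) := by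
  let e := ((tilde.functor (CommRingCat.of A)).mapDerivedCategorySingleFunctor 0).app M
  have key : ∀ {k : ℕ} (φ : Q (A := A) k ⟶ M),
      psi A ((DerivedCategory.singleFunctor (ModuleCat.{u} A) 0).map φ) ≫ e.hom =
        (DerivedCategory.singleFunctor (Spec (CommRingCat.of A)).Modules 0).map
          (pk A k ≫ (tilde.functor (CommRingCat.of A)).map φ) := fun {k} φ => by
    rw [psi, pkD, Functor.map_comp]
    simp only [Category.assoc]
    refine congrArg (_ ≫ ·) ?_
    exact (congrArg (_ ≫ ·)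
      (((tilde.functor (CommRingCat.of A)).mapDerivedCategorySingleFunctor 0).hom.naturality φ)).trans
        (Iso.inv_hom_id_app_assoc _ _ _)
  refine ⟨fun k x hx => ⟨k, le_rfl, ?_⟩, fun ψ => ?_⟩
  · obtain ⟨φ, rfl⟩ := (DerivedCategory.singleFunctor (ModuleCat.{u} A) 0).map_surjective x
    have h1 := key φ
    rw [hx, zero_comp] at h1
    have h2 := pk_map_eq_zero A φ ((DerivedCategory.singleFunctor (Spec (CommRingCat.of A)).Modules 0).map_injective
      (h1.symm.trans (Functor.map_zero _ _ _).symm))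
    rw [h2, Functor.map_zero, comp_zero]
  · obtain ⟨ψ', hψ'⟩ :=
      (DerivedCategory.singleFunctor (Spec (CommRingCat.of A)).Modules 0).map_surjective (ψ ≫ e.hom)
    obtain ⟨k, φ, hφ⟩ := exists_pk_map A ψ'
    exact ⟨k, (DerivedCategory.singleFunctor (ModuleCat.{u} A) 0).map φ, (cancel_mono e.hom).1 (by
      rw [key, hφ, hψ'])⟩

theorem subsingleton_CD_injective (J : ModuleCat.{u} A) [Injective J] (p : ℕ) :
    Subsingleton (CD A ⟶ (DCoh.tildeD (CommRingCat.of A)).obj
      (((DerivedCategory.singleFunctor (ModuleCat.{u} A) 0).obj J)⟦((p + 1 : ℕ) : ℤ)⟧)) := by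
  refine @Equiv.subsingleton _ _ (Iso.homCongr (Iso.refl _) (eS J _)) ?_
  haveI : Injective ((tilde.functor (CommRingCat.of A)).obj J) :=
    Groth.L29.QCohInj.injective_tilde (R := CommRingCat.of A) J
      ((Module.injective_iff_injective_object A J).2 inferInstance)
  haveI : HasExt.{u + 1} (Spec (CommRingCat.of A)).Modules := HasExt.standard _
  exact @Equiv.subsingleton _ _ Ext.homEquiv.symm
    (subsingleton_of_forall_eq (0 : Ext.{u + 1} (CZ (pun A))
      ((tilde.functor (CommRingCat.of A)).obj J) (p + 1)) fun x => x.eq_zero_of_injective)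

theorem bij_injective (J : ModuleCat.{u} A) [Injective J] (n : ℤ) :
    Bij (((DerivedCategory.singleFunctor (ModuleCat.{u} A) 0).obj J)⟦n⟧) := by
  rcases lt_trichotomy n 0 with hn | rfl | hn
  · exact bij_neg J n hn
  · exact Bij.of_iso ((shiftFunctorZero (Dual.D A) ℤ).app _).symm (bij_zero' J)
  · obtain ⟨p, rfl⟩ : ∃ p : ℕ, n = ((p + 1 : ℕ) : ℤ) := ⟨(n - 1).toNat, by omega⟩
    refine bij_of_subsingleton (fun k => ?_) (subsingleton_CD_injective J p)
    haveI : HasExt.{u} (ModuleCat.{u} A) := inferInstance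
    exact @Equiv.subsingleton _ _ Ext.homEquiv.symm
      (subsingleton_of_forall_eq (0 : Ext.{u} (Q (A := A) k) J (p + 1)) fun x => x.eq_zero_of_injective)

theorem bij_nat : ∀ (n : ℕ) (M : ModuleCat.{u} A),
    Bij (((DerivedCategory.singleFunctor (ModuleCat.{u} A) 0).obj M)⟦(n : ℤ)⟧) := by
  intro n
  induction n with
  | zero => exact fun M => Bij.of_iso ((shiftFunctorZero (Dual.D A) ℤ).app _).symm (bij_zero' M)
  | succ n ih =>
    intro M
    let S := ShortComplex.mk (Injective.ι M) (cokernel.π (Injective.ι M)) (cokernel.condition _)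
    have hS : S.ShortExact := { exact := ShortComplex.exact_of_g_is_cokernel _ (cokernelIsCokernel _) }
    haveI : Injective S.X₂ := inferInstanceAs (Injective (Injective.under M))
    have hT := Triangle.shift_distinguished _ (inv_rot_of_distTriang _ hS.singleTriangle_distinguished)
      ((n + 1 : ℕ) : ℤ)
    have hN : Bij ((((DerivedCategory.singleFunctor (ModuleCat.{u} A) 0).obj S.X₃)⟦(-1 : ℤ)⟧)⟦((n + 1 : ℕ) : ℤ)⟧) :=
      Bij.of_iso ((shiftFunctorAdd' (Dual.D A) (-1) ((n + 1 : ℕ) : ℤ) (n : ℤ) (by omega)).app _) (ih S.X₃)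
    refine ⟨inj_mid _ hT ?_ hN.1 (bij_injective S.X₂ _).1, surj_mid_zero _ hT (subsingleton_CD_injective S.X₂ n) hN.2⟩
    exact (Bij.of_iso ((shiftFunctorAdd' (Dual.D A) ((n + 1 : ℕ) : ℤ) (-1) (n : ℤ) (by omega)).app _)
        (bij_injective S.X₂ (n : ℤ))).2

theorem bij_module (M : ModuleCat.{u} A) (n : ℤ) :
    Bij (((DerivedCategory.singleFunctor (ModuleCat.{u} A) 0).obj M)⟦n⟧) := by
  rcases lt_or_ge n 0 with hn | hn
  · exact bij_neg M n hn
  · obtain ⟨p, rfl⟩ := Int.eq_ofNat_of_zero_le hn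
    exact bij_nat p M

/-- On bounded objects maps out of `CZ` are the colimit of the maps out of the `A/m^k`. -/
theorem bij_of_bounded (X : Dual.D A) (a b : ℤ) [X.IsGE a] [X.IsLE b] : Bij X := by
  refine Bij.of_iso ((shiftFunctorZero (Dual.D A) ℤ).app X) ?_
  refine Groth.L29.HomD.bounded_induction (fun X => ∀ n : ℤ, Bij (X⟦n⟧))
    (fun e h n => Bij.of_iso ((shiftFunctor (Dual.D A) n).mapIso e) (h n))
    (fun T hT h1 h3 => bij_second T hT h1 h3)
    (fun X hX n => Bij.of_isZero ((shiftFunctor (Dual.D A) n).map_isZero hX)) X a b (fun i _ _ n => ?_) 0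
  exact Bij.of_iso ((shiftFunctorAdd' (Dual.D A) (-i) n (-i + n) rfl).app _ ≪≫
    (shiftFunctor (Dual.D A) n).mapIso
      (((DerivedCategory.singleFunctors (ModuleCat.{u} A)).shiftIso (-i) i 0 (by lia)).app
        ((DerivedCategory.homologyFunctor (ModuleCat.{u} A) i).obj X)))
    (bij_module _ (-i + n))

end Groth.L17.LocDual
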