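import Groth.Agent.L17.LocDual.Pairing
import Groth.Agent.L17.LocDual.Degree
import Groth.Agent.L16.CohKernel
import Groth.Agent.S0366

/-!
# Local cohomology along the closed fibre against `Ext` into the dualizing module
-/

set_option autoImplicit false
set_option backward.defeqAttrib.useBackward true
set_option backward.isDefEq.respectTransparency false
set_option backward.isDefEq.respectTransparency.types false
set_option linter.style.haveILetI false
set_option linter.unusedSectionVars false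

universe u

open CategoryTheory CategoryTheory.Limits CategoryTheory.Pretriangulated CategoryTheory.Abelian AlgebraicGeometry
  DerivedCategory IsLocalRing
attribute [local instance] HasDerivedCategory.standard

noncomputable section

namespace Groth.L17.LocDual

open Groth.L29.DC
open Groth.L29.DC.RpushCoh (isCohD_Rpush exists_isLE)

variable {A : Type u} [CommRing A] [IsLocalRing A] [IsNoetherianRing A]

/-- A normalized dualizing complex lives in degrees `[-dim, 0]`. -/
theorem exists_range (ω : Dual.D A) (hω : Dual.IsDualizing A ω) (hn : Dual.IsNormalized A ω) :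
    ∃ lo hi : ℤ, ω.IsGE lo ∧ ω.IsLE hi := by
  obtain ⟨e, he⟩ := Groth.L01.exists_dim_eq_nat (R := A)
  have hr : ∀ i : ℤ, (i < -(e : ℤ) ∨ 0 < i) → IsZero ((DerivedCategory.homologyFunctor _ i).obj ω) := fun i hi => by
    haveI : Subsingleton (Dual.HD A ω i) := by
      by_contra hns
      rw [not_subsingleton_iff_nontrivial] at hns
      obtain ⟨h1, h2⟩ := (Groth.Agent.S0366.result A ω hω hn A e
        ((Module.supportDim_self_eq_ringKrullDim (R := A)).trans he) i).1
        ((Groth.L29.HomD.evalShiftEquiv (W := ω) i).toEquiv.nontrivial_congr.2 hns)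
      omega
    exact ModuleCat.isZero_of_subsingleton _
  exact ⟨-(e : ℤ), 0, (DerivedCategory.isGE_iff ω _).2 fun i hi => hr i (Or.inl hi),
    (DerivedCategory.isLE_iff ω _).2 fun i hi => hr i (Or.inr hi)⟩

variable [PreservesFiniteLimits (tilde.functor (CommRingCat.of A))]
  {X : Scheme.{u}} [X.Over (Spec (CommRingCat.of A))] [IsProper (X ↘ Spec (CommRingCat.of A))]

/-- A shifted coherent module has a bounded finite model of its derived global sections. -/
theorem exists_model [DCoh.HasRpush (X ↘ Spec (CommRingCat.of A))]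
    (h : DCoh.RpushPreservesQCoh (X ↘ Spec (CommRingCat.of A))) (F : X.Modules) (hF : Coh.IsCoh F) (i : ℤ) :
    DCoh.IsQCohD ((DCoh.inD X F)⟦i⟧) ∧
    ∃ (K : Dual.D A) (p q : ℤ) (_ : K.IsGE p) (_ : K.IsLE q),
      (∀ l : ℤ, Module.Finite A (Dual.HD A K l)) ∧
        Nonempty ((DCoh.tildeD (CommRingCat.of A)).obj K ≅
          (DCoh.Rpush (X ↘ Spec (CommRingCat.of A))).obj ((DCoh.inD X F)⟦i⟧)) := by
  let f := X ↘ Spec (CommRingCat.of A)
  haveI : IsLocallyNoetherian X := LocallyOfFiniteType.isLocallyNoetherian f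
  haveI : CompactSpace X := QuasiCompact.compactSpace_of_compactSpace f
  haveI : AlgebraicGeometry.IsNoetherian X := { }
  let G := (DCoh.inD X F)⟦i⟧
  haveI hge : G.IsGE (0 - i) := TStructure.t.isGE_shift (DCoh.inD X F) 0 i (0 - i) (by omega)
  haveI hle : G.IsLE (0 - i) := TStructure.t.isLE_shift (DCoh.inD X F) 0 i (0 - i) (by omega)
  have hqG : DCoh.IsQCohD G := Gen.isQCohD_shift (Groth.L10.TopDual.isQCohD_inD F hF.1) i
  have hH : ∀ l : ℤ, l = 0 - i → Nonempty (DCoh.HD G l ≅ F) := fun l hl =>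
    ⟨Groth.L10.hShiftIso (DCoh.inD X F) i l 0 (by omega) ≪≫
      (DerivedCategory.singleFunctorCompHomologyFunctorIso X.Modules 0).app F⟩
  have hcoh : ∀ l : ℤ, Coh.IsCoh (DCoh.HD G l) := fun l => by
    by_cases hl : l = 0 - i
    · obtain ⟨e⟩ := hH l hl
      exact Groth.L16.CohSupport.isCoh_of_iso e.symm hF
    · refine Groth.L16.Devissage.isCoh_of_isZero ?_
      rcases lt_or_gt_of_ne hl with hl' | hl'
      · exact DerivedCategory.isZero_of_isGE G (0 - i) l hl'
      · exact DerivedCategory.isZero_of_isLE G (0 - i) l hl'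
  have hsupp : ∀ l : ℤ, ClSub.IsProperOver f (CohB1.support (DCoh.HD G l)) := fun l =>
    Groth.L16.HomSh.isProperOver_mono _ ⟨isClosed_univ, inferInstance⟩
      (Groth.L16.CohSupport.isClosed_support _ (hcoh l).2) (Set.subset_univ _)
  have hRc := isCohD_Rpush (f := f) G (0 - i) hcoh hsupp
  obtain ⟨b', hb'⟩ := exists_isLE (f := f) (0 - i) 1 G (by simpa using hge) hle hcoh hsupp
  haveI := RpushQC.isGE_Rpush f G (0 - i)
  obtain ⟨K, ⟨eK⟩⟩ := (TildeD.isQCohD_iff (R := CommRingCat.of A) _).1 (h G hqG)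
  refine ⟨hqG, K, 0 - i, b', ?_, ?_, fun l => ?_, ⟨eK⟩⟩
  · refine (DerivedCategory.isGE_iff K _).2 fun l hl => ?_
    haveI : Subsingleton ((Groth.L02.PC.HH l).obj K) :=
      Groth.L19.Pinch.subsingleton_of_isZero_tilde (R := CommRingCat.of A) _
        ((DerivedCategory.isZero_of_isGE ((DCoh.Rpush f).obj G) (0 - i) l hl).of_iso
          ((Groth.L29.DC.TildeAlg.hdIso (R := CommRingCat.of A) K l).symm ≪≫
            (DerivedCategory.homologyFunctor _ l).mapIso eK))
    exact ModuleCat.isZero_of_subsingleton _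
  · refine (DerivedCategory.isLE_iff K _).2 fun l hl => ?_
    haveI := hb'
    haveI : Subsingleton ((Groth.L02.PC.HH l).obj K) :=
      Groth.L19.Pinch.subsingleton_of_isZero_tilde (R := CommRingCat.of A) _
        ((DerivedCategory.isZero_of_isLE ((DCoh.Rpush f).obj G) b' l hl).of_iso
          ((Groth.L29.DC.TildeAlg.hdIso (R := CommRingCat.of A) K l).symm ≪≫
            (DerivedCategory.homologyFunctor _ l).mapIso eK))
    exact ModuleCat.isZero_of_subsingleton _
  · haveI := (hRc l).1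
    exact Groth.L16.CohKernel.finite_of_tilde_iso (R := CommRingCat.of A) _ (hRc l).2 (𝟙 _)
      ((Groth.L02.PC.HH l).obj K)
      (Scheme.Modules.restrictFunctorId.app _ ≪≫ (DerivedCategory.homologyFunctor _ l).mapIso eK.symm ≪≫
        Groth.L29.DC.TildeAlg.hdIso (R := CommRingCat.of A) K l)

set_option maxHeartbeats 1600000 in
/-- Local cohomology along the closed fibre is Matlis dual to `Ext` into the dualizing module. -/
theorem exists_pairing_main [HasExt.{u} X.Modules]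
    (ωR : Dual.D A) (hω : Dual.IsDualizing A ωR)
    (W : DCoh.DQCoh (Spec (CommRingCat.of A)))
    (hW : Nonempty (W.obj ≅ (DCoh.tildeD (CommRingCat.of A)).obj ωR))
    [DCoh.HasRpush (X ↘ Spec (CommRingCat.of A))] (h : DCoh.RpushPreservesQCoh (X ↘ Spec (CommRingCat.of A)))
    {a : DCoh.DQCoh (Spec (CommRingCat.of A)) ⥤ DCoh.DQCoh X}
    (adj : DCoh.RpushQ (X ↘ Spec (CommRingCat.of A)) h ⊣ a)
    (hCM : ∀ x : X, LocCoh.IsCohenMacaulayLocalRing (X.presheaf.stalk x))
    (d : ℤ) (hconc : ∀ j : ℤ, j ≠ d → IsZero (DCoh.HD (a.obj W).obj j))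
    (n : ℕ) (hdim : topologicalKrullDim X = n)
    {E : Type u} [AddCommGroup E] [Module A E] (ι : ResidueField A →ₗ[A] E) (hE : InjHull.IsInjectiveHull ι)
    (i j : ℕ) (hij : i + j = n) :
    ∃ Φ : ∀ F : X.Modules,
      Ext.{u} (CZ (punX A X)) F i →+ (Ext.{u} F (DCoh.HD (a.obj W).obj d) j →ₗ[A] E),
      (∀ F : X.Modules, Coh.IsCoh F → Function.Bijective (Φ F)) ∧
      ∀ (F F' : X.Modules) (g : F ⟶ F') (x : Ext.{u} (CZ (punX A X)) F i)
        (y : Ext.{u} F' (DCoh.HD (a.obj W).obj d) j),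
        Φ F' (x.comp (Ext.mk₀ g) (add_zero i)) y = Φ F x ((Ext.mk₀ g).comp y (zero_add j)) := by
  haveI := fun R : CommRingCat.{u} => Groth.L18.TildeF.tilde_preservesFiniteLimits (R := R)
  obtain ⟨eW⟩ := hW
  obtain ⟨c, hcω, hcn⟩ := Groth.L29.Unique.exists_normalized_shift hω
  obtain ⟨lo, hi, _, _⟩ := exists_range _ hcω hcn
  obtain ⟨S⟩ := Groth.L29.LocDual.exists_pairing hcω hcn ι hE
  -- the degree
  haveI : (tilde.functor (CommRingCat.of A)).Additive := additive_tilde A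
  haveI : PreservesFiniteColimits (tilde.functor (CommRingCat.of A)) := preservesFiniteColimits_tilde A
  let W' : DCoh.DQCoh (Spec (CommRingCat.of A)) := ⟨W.obj⟦c⟧, Gen.isQCohD_shift W.property c⟩
  let eW' : W'.obj ≅ (DCoh.tildeD (CommRingCat.of A)).obj (ωR⟦c⟧) :=
    (shiftFunctor _ c).mapIso eW ≪≫ (((DCoh.tildeD (CommRingCat.of A)).commShiftIso c).app ωR).symm
  obtain ⟨ea⟩ := exists_shift_iso adj W W' c (Iso.refl _)
  have hdeg : d - c = -(n : ℤ) := degree_eq adj W' (ωR⟦c⟧) hcω hcn ⟨eW'⟩ hCM (d - c) (fun l hl =>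
    (hconc (c + l) (by omega)).of_iso ((DerivedCategory.homologyFunctor X.Modules l).mapIso ea ≪≫
      Groth.L10.hShiftIso (a.obj W).obj c l (c + l) rfl)) n hdim
  obtain ⟨T, hT⟩ := exists_trace adj W ωR eW c (lo := lo) (hi := hi) S
  -- the dualizing module
  let K := (a.obj W).obj
  haveI : K.IsGE d := (DerivedCategory.isGE_iff K d).2 fun l hl => hconc l (by omega)
  haveI : K.IsLE d := (DerivedCategory.isLE_iff K d).2 fun l hl => hconc l (by omega)
  obtain ⟨e1⟩ := Groth.L10.exists_iso_single_H K d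
  let Ω := DCoh.HD K d
  let κ : ((DCoh.inD X Ω)⟦(j : ℤ)⟧)⟦(i : ℤ)⟧ ≅ K⟦c⟧ :=
    (shiftFunctorAdd' (DCoh.D X) (j : ℤ) (i : ℤ) ((-d) + c) (by omega)).symm.app (DCoh.inD X Ω) ≪≫
      (shiftFunctorAdd' (DCoh.D X) (-d) c ((-d) + c) rfl).app (DCoh.inD X Ω) ≪≫
      (shiftFunctor (DCoh.D X) c).mapIso
        (((DerivedCategory.singleFunctors X.Modules).shiftIso (-d) d 0 (by omega)).app Ω ≪≫ e1.symm)
  let Sh : X.Modules → DCoh.D X := fun F => (DCoh.inD X F)⟦(i : ℤ)⟧
  let toSrc : ∀ F : X.Modules, Ext.{u} (CZ (punX A X)) F i →+ (CXD A X ⟶ Sh F) := fun F =>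
    AddMonoidHom.mk' (fun x => Ext.homEquiv x) fun x x' => Ext.add_hom x x'
  let toTgt : ∀ F : X.Modules, Ext.{u} F Ω j →ₗ[A] (Sh F ⟶ K⟦c⟧) := fun F =>
    Linear.rightComp A (Sh F) κ.hom ∘ₗ (shiftFunctor (DCoh.D X) (i : ℤ)).mapLinearMap A ∘ₗ
      (Ext.homLinearEquiv (R := A)).toLinearMap
  have htgt : ∀ F, Function.Bijective (toTgt F) := fun F => by
    refine Function.Bijective.comp (g := fun z : Sh F ⟶ ((DCoh.inD X Ω)⟦(j : ℤ)⟧)⟦(i : ℤ)⟧ => z ≫ κ.hom)
      ⟨fun _ _ hab => (cancel_mono κ.hom).1 hab, fun b => ⟨b ≫ κ.inv, by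
        dsimp only; rw [Category.assoc, κ.inv_hom_id, Category.comp_id]⟩⟩ ?_
    exact Function.Bijective.comp (g := fun z : DCoh.inD X F ⟶ (DCoh.inD X Ω)⟦(j : ℤ)⟧ => z⟦(i : ℤ)⟧')
      ⟨(shiftFunctor (DCoh.D X) (i : ℤ)).map_injective, (shiftFunctor (DCoh.D X) (i : ℤ)).map_surjective⟩
      (Ext.homLinearEquiv (R := A)).bijective
  refine ⟨fun F => AddMonoidHom.mk'
    (fun x => (T ∘ₗ Linear.leftComp A (K⟦c⟧) (toSrc F x)) ∘ₗ toTgt F) (fun x x' => ?_), fun F hF => ?_,
    fun F F' g x y => ?_⟩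
  · refine LinearMap.ext fun y => ?_
    simp only [LinearMap.comp_apply, LinearMap.add_apply]
    exact (congrArg (fun z => T (z ≫ toTgt F y)) (map_add (toSrc F) x x')).trans
      ((congrArg T (Preadditive.add_comp _ _ _ _ _ _)).trans (map_add T _ _))
  · obtain ⟨hq, hK⟩ := exists_model h F hF (i : ℤ)
    have hbT := hT (Sh F) hq hK
    let e := LinearEquiv.ofBijective (toTgt F) (htgt F)
    refine Function.Bijective.comp (g := fun μ : (Sh F ⟶ K⟦c⟧) →ₗ[A] E => μ ∘ₗ toTgt F)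
      ⟨fun μ μ' hμ => LinearMap.ext fun z => ?_, fun ν => ⟨ν ∘ₗ e.symm.toLinearMap, LinearMap.ext fun y => ?_⟩⟩
      (hbT.comp (Ext.homEquiv.bijective : Function.Bijective (toSrc F)))
    · obtain ⟨y, rfl⟩ := (htgt F).2 z
      exact LinearMap.congr_fun hμ y
    · exact congrArg ν (e.symm_apply_apply y)
  · change T (toSrc F' (x.comp (Ext.mk₀ g) (add_zero i)) ≫ toTgt F' y) =
      T (toSrc F x ≫ toTgt F ((Ext.mk₀ g).comp y (zero_add j)))
    have h1 : toSrc F' (x.comp (Ext.mk₀ g) (add_zero i)) =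
        toSrc F x ≫ ((DerivedCategory.singleFunctor X.Modules 0).map g)⟦(i : ℤ)⟧' := by
      change Ext.homEquiv _ = Ext.homEquiv x ≫ _
      refine (Ext.comp_hom _ _ _).trans ?_
      rw [Ext.mk₀_hom]
      exact ShiftedHom.comp_mk₀ _ _ _ _
    have h2 : toTgt F ((Ext.mk₀ g).comp y (zero_add j)) =
        ((DerivedCategory.singleFunctor X.Modules 0).map g)⟦(i : ℤ)⟧' ≫ toTgt F' y := by
      change (Ext.homEquiv _)⟦(i : ℤ)⟧' ≫ κ.hom = _ ≫ ((Ext.homEquiv y)⟦(i : ℤ)⟧' ≫ κ.hom)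
      rw [← Category.assoc, ← Functor.map_comp]
      congr 2
      refine (Ext.comp_hom _ _ _).trans ?_
      rw [Ext.mk₀_hom]
      exact ShiftedHom.mk₀_comp _ _ _ _
    rw [h1, h2, Category.assoc]

end Groth.L17.LocDual
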