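import Groth.Agent.L17.LocDual.Affine
import Groth.Agent.L17.CDInj.Pairing
import Groth.Agent.L29.DCoh.RpushCoh
import Groth.Agent.L00.DerivedApi

/-!
# Relative local duality on a proper scheme over a local ring
-/

set_option autoImplicit false
set_option backward.defeqAttrib.useBackward true
set_option backward.isDefEq.respectTransparency false
set_option backward.isDefEq.respectTransparency.types false
set_option linter.style.haveILetI false
set_option linter.unusedSectionVars false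

universe u

open CategoryTheory CategoryTheory.Limits CategoryTheory.Pretriangulated CategoryTheory.Abelian AlgebraicGeometry
  DerivedCategory IsLocalRing
attribute [local instance] HasDerivedCategory.standard

noncomputable section

namespace Groth.L17.LocDual

open Groth.L29.DC
open Groth.L29.LocDual (P res_comp pair pair_res pair_apply Pairing LD)
open Groth.L29.LocDual renaming res → pres

/-- A flat module pulls back without higher terms. -/
theorem nonempty_Lpull_inD {Y U : Scheme.{u}} (f : Y ⟶ U) [DCoh.HasLpull f] (M : U.Modules)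
    (hM : FlatMod.IsFlat M) :
    Nonempty ((DCoh.Lpull f).obj (DCoh.inD U M) ≅ DCoh.inD Y ((Scheme.Modules.pullback f).obj M)) :=
  ⟨(DCoh.Lpull f).mapIso ((DerivedCategory.singleFunctorIsoCompQ _ 0).app _) ≪≫
    Groth.L00.DerivedApi.objIso (Groth.L00.DerivedApi.acyclicKFlat_pullback f) _
      (Groth.L00.KFlat.single M hM 0) ≪≫
    DerivedCategory.Q.mapIso
      ((HomologicalComplex.singleMapHomologicalComplex (Scheme.Modules.pullback f) (ComplexShape.up ℤ) 0).app _) ≪≫
    ((DerivedCategory.singleFunctorIsoCompQ _ 0).app _).symm⟩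

variable {A : Type u} [CommRing A] [IsLocalRing A] [IsNoetherianRing A]
  [PreservesFiniteLimits (tilde.functor (CommRingCat.of A))]
  {X : Scheme.{u}} [X.Over (Spec (CommRingCat.of A))]

/-- The closed fibre's complement. -/
abbrev punX (A : Type u) [CommRing A] [IsLocalRing A] (X : Scheme.{u}) [X.Over (Spec (CommRingCat.of A))] :
    X.Opens :=
  (X ↘ Spec (CommRingCat.of A)) ⁻¹ᵁ LocCoh.puncturedOpen A (maximalIdeal A)

/-- `CZ` upstairs in the derived category. -/
abbrev CXD (A : Type u) [CommRing A] [IsLocalRing A] (X : Scheme.{u}) [X.Over (Spec (CommRingCat.of A))] :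
    DCoh.D X :=
  DCoh.inD X (CZ (punX A X))

set_option maxHeartbeats 1600000 in
/-- The trace functional on maps from `CZ` into the shifted twisted inverse image represents the Matlis duals. -/
theorem exists_trace [DCoh.HasRpush (X ↘ Spec (CommRingCat.of A))]
    {h : DCoh.RpushPreservesQCoh (X ↘ Spec (CommRingCat.of A))}
    {a : DCoh.DQCoh (Spec (CommRingCat.of A)) ⥤ DCoh.DQCoh X}
    (adj : DCoh.RpushQ (X ↘ Spec (CommRingCat.of A)) h ⊣ a) (W : DCoh.DQCoh (Spec (CommRingCat.of A)))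
    (ω : Dual.D A) (eW : W.obj ≅ (DCoh.tildeD (CommRingCat.of A)).obj ω) (c : ℤ)
    {lo hi : ℤ} [(ω⟦c⟧).IsGE lo] [(ω⟦c⟧).IsLE hi]
    {E : Type u} [AddCommGroup E] [Module A E] (S : Pairing (ω⟦c⟧) E) :
    ∃ T : (CXD A X ⟶ (a.obj W).obj⟦c⟧) →ₗ[A] E, ∀ G : DCoh.D X, DCoh.IsQCohD G →
      (∃ (K : Dual.D A) (p q : ℤ) (_ : K.IsGE p) (_ : K.IsLE q),
        (∀ i : ℤ, Module.Finite A (Dual.HD A K i)) ∧
          Nonempty ((DCoh.tildeD (CommRingCat.of A)).obj K ≅
            (DCoh.Rpush (X ↘ Spec (CommRingCat.of A))).obj G)) →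
      Function.Bijective fun φ : CXD A X ⟶ G => T ∘ₗ Linear.leftComp A ((a.obj W).obj⟦c⟧) φ := by
  let f := X ↘ Spec (CommRingCat.of A)
  letI iS : (Spec (CommRingCat.of A)).Over (Spec (CommRingCat.of A)) := ⟨𝟙 _⟩
  haveI := Groth.L00.KFlat.hasLpull f
  haveI : (DCoh.Rpush f).Additive := RpushColim.additive_Rpush f
  letI := Gen.commShiftRpush f
  have hsq : f ≫ (Spec (CommRingCat.of A) ↘ Spec (CommRingCat.of A)) =
      f ≫ Spec.map (CommRingCat.ofHom (RingHom.id A)) := by
    rw [CommRingCat.ofHom_id, Spec.map_id]; rfl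
  let R : CommRingCat.{u} := CommRingCat.of A
  have hlin : ∀ (r : A) (N : ModuleCat.{u} R),
      (tilde.functor R).map (r • 𝟙 N) = r • 𝟙 ((tilde.functor R).obj N) := fun r N => by
    rw [KLin.smul_id]
    exact Groth.L17.BC.TensorA.tilde_smul (R := R) r N
  haveI : (tilde.functor R).Additive := additive_tilde A
  haveI : PreservesFiniteColimits (tilde.functor R) := preservesFiniteColimits_tilde A
  haveI : (tilde.functor R).Linear A := ⟨fun {N N'} φ r => by
    rw [show r • φ = (r • 𝟙 N) ≫ φ by rw [Linear.smul_comp, Category.id_comp], Functor.map_comp, hlin,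
      Linear.smul_comp]
    exact congrArg (r • ·) (Category.id_comp _)⟩
  obtain ⟨hfull, hfaith⟩ := TildeD.fullyFaithful (R := R)
  -- the functional downstairs
  let ω' : Dual.D A := ω⟦c⟧
  have hB : Bij (A := A) ω' := bij_of_bounded ω' lo hi
  let val : (CD A ⟶ (DCoh.tildeD R).obj ω') → E := fun v => S.ev (hB.2 v).choose (hB.2 v).choose_spec.choose
  have hval : ∀ (v : CD A ⟶ (DCoh.tildeD R).obj ω') (k : ℕ) (x : P A k ⟶ ω'), psi A x = v → val v = S.ev k x := by
    intro v k x hx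
    obtain ⟨l, hl, hl0⟩ := hB.1 (max (hB.2 v).choose k)
      (pres (le_max_left _ k) ≫ (hB.2 v).choose_spec.choose - pres (le_max_right _ k) ≫ x) (by
        rw [psi_sub, psi_res, psi_res, (hB.2 v).choose_spec.choose_spec, hx, sub_self])
    rw [Preadditive.comp_sub, sub_eq_zero, ← Category.assoc, ← Category.assoc, res_comp, res_comp] at hl0
    change S.ev _ (hB.2 v).choose_spec.choose = _
    rw [← S.ev_res ((le_max_left _ k).trans hl), ← S.ev_res ((le_max_right _ k).trans hl) x, hl0]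
  have hpsi_add : ∀ {k : ℕ} {L : Dual.D A} (x y : P A k ⟶ L), psi A (x + y) = psi A x + psi A y :=
    fun x y => by simp [psi]
  have hpsi_smul : ∀ {k : ℕ} {L : Dual.D A} (r : A) (x : P A k ⟶ L), psi A (r • x) = r • psi A x :=
    fun r x => by
      change pkD A _ ≫ (DCoh.tildeD R).map (r • x) = r • (pkD A _ ≫ (DCoh.tildeD R).map x)
      rw [Functor.map_smul, Linear.comp_smul]
  let τ : (CD A ⟶ (DCoh.tildeD R).obj ω') →ₗ[A] E :=
    { toFun := val
      map_add' := fun v v' => by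
        obtain ⟨k, x, hx⟩ := hB.2 v
        obtain ⟨k', x', hx'⟩ := hB.2 v'
        rw [hval v _ (pres (le_max_left k k') ≫ x) (by rw [psi_res, hx]),
          hval v' _ (pres (le_max_right k k') ≫ x') (by rw [psi_res, hx']),
          hval (v + v') _ (pres (le_max_left k k') ≫ x + pres (le_max_right k k') ≫ x')
            (by rw [hpsi_add, psi_res, psi_res, hx, hx']), map_add]
      map_smul' := fun r v => by
        obtain ⟨k, x, hx⟩ := hB.2 v
        rw [RingHom.id_apply, hval v k x hx, hval (r • v) k (r • x) (by rw [hpsi_smul, hx]), map_smul] }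
  -- sections with supports upstairs and downstairs
  obtain ⟨o₁⟩ := nonempty_Lpull_inD f (CZ (pun A)) (isFlat_CZ _)
  obtain ⟨o₂⟩ := nonempty_pullback_CZ (pun A) f
  let o : (DCoh.Lpull f).obj (CD A) ≅ CXD A X :=
    o₁ ≪≫ (DerivedCategory.singleFunctor X.Modules 0).mapIso o₂
  let Θ : ∀ V : DCoh.D X, (CXD A X ⟶ V) ≃ₗ[A] (CD A ⟶ (DCoh.Rpush f).obj V) := fun V =>
    { toFun := fun u => (Groth.L29.BC.adj f).homEquiv _ _ (o.hom ≫ u)
      invFun := fun v => o.inv ≫ ((Groth.L29.BC.adj f).homEquiv _ _).symm v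
      left_inv := fun u => by dsimp only; rw [Equiv.symm_apply_apply, o.inv_hom_id_assoc]
      right_inv := fun v => by dsimp only; rw [o.hom_inv_id_assoc, Equiv.apply_symm_apply]
      map_add' := fun a b => by
        simp only [Adjunction.homEquiv_unit, Functor.map_add, Preadditive.comp_add]
      map_smul' := fun r a => by
        have h2 : ∀ {P Q : DCoh.D X} (v : P ⟶ Q), (DCoh.Rpush f).map (r • v) = r • (DCoh.Rpush f).map v :=
          fun v => Groth.L29.BCAdj.Rpush_smul (RingHom.id A) f hsq r v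
        simp only [Adjunction.homEquiv_unit, Linear.comp_smul, h2, RingHom.id_apply] }
  have hΘ : ∀ {V V' : DCoh.D X} (u : CXD A X ⟶ V) (w : V ⟶ V'), Θ V' (u ≫ w) = Θ V u ≫ (DCoh.Rpush f).map w := by
    intro V V' u w
    change (Groth.L29.BC.adj f).homEquiv _ _ (o.hom ≫ u ≫ w) = (Groth.L29.BC.adj f).homEquiv _ _ (o.hom ≫ u) ≫ _
    rw [← Category.assoc, Adjunction.homEquiv_naturality_right]
  -- the shifted trace
  let p₀ : (DCoh.Rpush f).obj (a.obj W).obj ⟶ (DCoh.tildeD R).obj ω := (adj.counit.app W).hom ≫ eW.hom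
  let κ : ((DCoh.tildeD R).obj ω)⟦c⟧ ≅ (DCoh.tildeD R).obj ω' := (((DCoh.tildeD R).commShiftIso c).app ω).symm
  let KX := (a.obj W).obj⟦c⟧
  let ε : (DCoh.Rpush f).obj KX ⟶ (DCoh.tildeD R).obj ω' :=
    ((DCoh.Rpush f).commShiftIso c).hom.app _ ≫ p₀⟦c⟧' ≫ κ.hom
  let T : (CXD A X ⟶ KX) →ₗ[A] E := τ ∘ₗ Linear.rightComp A (CD A) ε ∘ₗ (Θ KX).toLinearMap
  have hp₀ : ∀ V : DCoh.D X, DCoh.IsQCohD V →
      Function.Bijective fun v : V ⟶ (a.obj W).obj => (DCoh.Rpush f).map v ≫ p₀ := by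
    intro V hV
    let Q : DCoh.DQCoh X := ⟨V, hV⟩
    constructor
    · intro p q hpq
      dsimp only [p₀] at hpq
      rw [← Category.assoc, ← Category.assoc, cancel_mono] at hpq
      have := (adj.homEquiv Q W).symm.injective
        (a₁ := ObjectProperty.homMk p) (a₂ := ObjectProperty.homMk q) (ObjectProperty.hom_ext _ (by
          rw [Adjunction.homEquiv_counit, Adjunction.homEquiv_counit]
          exact hpq))
      exact congrArg (fun z : Q ⟶ a.obj W => z.hom) this
    · intro v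
      let w : Q ⟶ a.obj W := adj.homEquiv Q W (ObjectProperty.homMk (v ≫ eW.inv))
      refine ⟨w.hom, ?_⟩
      have h2 : ((adj.homEquiv Q W).symm w).hom = v ≫ eW.inv := by
        simp only [w, Equiv.symm_apply_apply]
        rfl
      rw [Adjunction.homEquiv_counit] at h2
      change (DCoh.Rpush f).map w.hom ≫ (adj.counit.app W).hom ≫ eW.hom = v
      rw [← Category.assoc]
      exact (congrArg (· ≫ eW.hom) h2).trans (by rw [Category.assoc, eW.inv_hom_id, Category.comp_id])
  have hε : ∀ V : DCoh.D X, DCoh.IsQCohD V →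
      Function.Bijective fun v : V ⟶ KX => (DCoh.Rpush f).map v ≫ ε := by
    intro V hV
    let V' : DCoh.D X := V⟦-c⟧
    let e : V'⟦c⟧ ≅ V := (shiftFunctorCompIsoId (DCoh.D X) (-c) c (by omega)).app V
    let c₁ : (DCoh.Rpush f).obj (V'⟦c⟧) ≅ ((DCoh.Rpush f).obj V')⟦c⟧ := ((DCoh.Rpush f).commShiftIso c).app V'
    have key : ∀ w : V' ⟶ (a.obj W).obj, (DCoh.Rpush f).map (e.inv ≫ w⟦c⟧') ≫ ε =
        (DCoh.Rpush f).map e.inv ≫ c₁.hom ≫ ((DCoh.Rpush f).map w ≫ p₀)⟦c⟧' ≫ κ.hom := by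
      intro w
      simp only [ε, c₁, Functor.map_comp, Category.assoc, Iso.app_hom]
      refine congrArg (_ ≫ ·) ?_
      exact ((DCoh.Rpush f).commShiftIso c).hom.naturality_assoc w _
    have hw : Function.Bijective fun w : V' ⟶ (a.obj W).obj => e.inv ≫ w⟦c⟧' :=
      ⟨fun p q hpq => (shiftFunctor (DCoh.D X) c).map_injective ((cancel_epi e.inv).1 hpq), fun v => by
        obtain ⟨w, hw⟩ := (shiftFunctor (DCoh.D X) c).map_surjective (e.hom ≫ v)
        exact ⟨w, by dsimp only; rw [hw, e.inv_hom_id_assoc]⟩⟩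
    have hm : Function.Bijective fun z : (DCoh.Rpush f).obj V' ⟶ (DCoh.tildeD R).obj ω =>
        (DCoh.Rpush f).map e.inv ≫ c₁.hom ≫ z⟦c⟧' ≫ κ.hom :=
      ⟨fun p q hpq => (shiftFunctor _ c).map_injective ((cancel_mono κ.hom).1 ((cancel_epi c₁.hom).1
        ((cancel_epi ((DCoh.Rpush f).map e.inv)).1 hpq))), fun v => by
        obtain ⟨z, hz⟩ := (shiftFunctor (DCoh.D (Spec R)) c).map_surjective
          (c₁.inv ≫ (DCoh.Rpush f).map e.hom ≫ v ≫ κ.inv)
        refine ⟨z, ?_⟩
        dsimp only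
        rw [hz]
        simp only [Category.assoc, Iso.inv_hom_id, Category.comp_id, Iso.hom_inv_id_assoc,
          ← Functor.map_comp_assoc, CategoryTheory.Functor.map_id, Category.id_comp]⟩
    refine (Function.Bijective.of_comp_iff _ hw).1 ?_
    rw [show (fun v : V ⟶ KX => (DCoh.Rpush f).map v ≫ ε) ∘ (fun w : V' ⟶ (a.obj W).obj => e.inv ≫ w⟦c⟧') =
        (fun z => (DCoh.Rpush f).map e.inv ≫ c₁.hom ≫ z⟦c⟧' ≫ κ.hom) ∘
          (fun w : V' ⟶ (a.obj W).obj => (DCoh.Rpush f).map w ≫ p₀) from funext key]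
    exact hm.comp (hp₀ V' (Gen.isQCohD_shift hV _))
  refine ⟨T, fun G hG hK => ?_⟩
  obtain ⟨K, p, q, hp, hq, hfin, ⟨eN⟩⟩ := hK
  have hBK : Bij (A := A) K := bij_of_bounded K p q
  have hLD : LD S K := LD.of_iso S ((shiftFunctorZero (Dual.D A) ℤ).app K) (LD.of_bounded S K p q hfin 0)
  have hv : ∀ s : K ⟶ ω', ∃ v : G ⟶ KX, (DCoh.Rpush f).map v ≫ ε = eN.inv ≫ (DCoh.tildeD R).map s :=
    fun s => (hε G hG).2 _
  have hcalc : ∀ (φ : CXD A X ⟶ G) (k : ℕ) (x : P A k ⟶ K), psi A x = Θ G φ ≫ eN.inv →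
      ∀ (v : G ⟶ KX) (s : K ⟶ ω'), (DCoh.Rpush f).map v ≫ ε = eN.inv ≫ (DCoh.tildeD R).map s →
        T (φ ≫ v) = pair S k K x s := by
    intro φ k x hx v s hvs
    change τ (Θ KX (φ ≫ v) ≫ ε) = _
    rw [hΘ, Category.assoc, hvs, ← Category.assoc, ← hx, ← psi_comp, pair_apply]
    exact hval _ k _ rfl
  refine ⟨fun φ φ' hφ => ?_, fun μ => ?_⟩
  · rw [← sub_eq_zero]
    obtain ⟨k, x, hx⟩ := hBK.2 (Θ G (φ - φ') ≫ eN.inv)
    have hzero : pair S k K x = 0 := LinearMap.ext fun s => by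
      obtain ⟨v, hv⟩ := hv s
      rw [← hcalc _ k x hx v s hv, Preadditive.sub_comp, map_sub]
      exact sub_eq_zero.2 (LinearMap.congr_fun hφ v)
    obtain ⟨l, hl, hl0⟩ := hLD.1 k x hzero
    apply (Θ G).injective
    rw [map_zero, ← cancel_mono eN.inv, zero_comp, ← hx, ← psi_res hl, hl0]
    simp [psi]
  · have hs : ∀ v : G ⟶ KX, ∃ s : K ⟶ ω', (DCoh.tildeD R).map s = eN.hom ≫ (DCoh.Rpush f).map v ≫ ε :=
      fun v => (DCoh.tildeD R).map_surjective _
    choose sv hsv using hv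
    have hlin' : ∀ (s : K ⟶ ω') (r : A), sv (r • s) = r • sv s := fun s r => (hε G hG).1 (by
      dsimp only
      have h2 : (DCoh.Rpush f).map (r • sv s) = r • (DCoh.Rpush f).map (sv s) :=
        Groth.L29.BCAdj.Rpush_smul (RingHom.id A) f hsq r (sv s)
      rw [hsv, Functor.map_smul, Linear.comp_smul, ← hsv, h2, Linear.smul_comp])
    have hadd' : ∀ s s' : K ⟶ ω', sv (s + s') = sv s + sv s' := fun s s' => (hε G hG).1 (by
      dsimp only
      rw [hsv, Functor.map_add, Preadditive.comp_add, ← hsv, ← hsv, Functor.map_add, Preadditive.add_comp])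
    obtain ⟨k, x, hx⟩ := hLD.2
      { toFun := fun s => μ (sv s)
        map_add' := fun s s' => by rw [hadd', map_add]
        map_smul' := fun r s => by rw [hlin', map_smul, RingHom.id_apply] }
    refine ⟨(Θ G).symm (psi A x ≫ eN.hom), LinearMap.ext fun v => ?_⟩
    obtain ⟨s, hsv'⟩ := hs v
    have hv' : (DCoh.Rpush f).map v ≫ ε = eN.inv ≫ (DCoh.tildeD R).map s := by
      rw [hsv', eN.inv_hom_id_assoc]
    have hvs : sv s = v := (hε G hG).1 ((hsv s).trans hv'.symm)
    change T (_ ≫ v) = μ v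
    rw [hcalc _ k x (by rw [LinearEquiv.apply_symm_apply, Category.assoc, eN.hom_inv_id, Category.comp_id]) v s hv',
      hx]
    exact congrArg μ hvs

end Groth.L17.LocDual
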