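import Groth.Agent.L17.LocDual.ExtCmp
import Groth.Agent.L17.LocCx.SuppHom
import Groth.Agent.L17.PushMV
import Groth.Agent.L04.SupportSh.Flasque
import Groth.Agent.L21.CurveDual.Ext1
import Groth.Agent.L29.DCoh.Flat
import Groth.Prelude.Def_LocCohZ
import Groth.Prelude.Def_FlatMod2

/-!
# The module corepresenting the global sections with supports
-/

set_option autoImplicit false
set_option backward.isDefEq.respectTransparency false
set_option backward.isDefEq.respectTransparency.types false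
set_option linter.style.haveILetI false

universe u

open CategoryTheory CategoryTheory.Limits CategoryTheory.Abelian AlgebraicGeometry TopologicalSpace Opposite
open Groth.L18.Frame (rs rs_rs rs_self)
open Groth.L29.LocNoeth (gen genSec hom_ext_one)
open Groth.L16.CohLinear (tF)

noncomputable section

namespace Groth.L17.LocDual

variable {X : Scheme.{u}} (R : X.Opens)

/-- `j_! O_R ⟶ O_X`. -/
def extι : gen R ⟶ Coh.structureModule X :=
  (Groth.L29.LocNoeth.exists_hom_gen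
    (rs (Coh.structureModule X) (le_top : R.ι ''ᵁ ⊤ ≤ ⊤) (1 : Γ(X, ⊤)))).choose

theorem extι_genSec : (extι R).app (R.ι ''ᵁ ⊤) (genSec R) =
    rs (Coh.structureModule X) (le_top : R.ι ''ᵁ ⊤ ≤ ⊤) (1 : Γ(X, ⊤)) :=
  (Groth.L29.LocNoeth.exists_hom_gen
    (rs (Coh.structureModule X) (le_top : R.ι ''ᵁ ⊤ ≤ ⊤) (1 : Γ(X, ⊤)))).choose_spec

/-- `CZ R` corepresents the global sections vanishing on `R`. -/
def CZ : X.Modules := cokernel (extι R)

/-- The projection `O_X ⟶ CZ R`. -/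
def proj : Coh.structureModule X ⟶ CZ R := cokernel.π (extι R)

instance : Epi (proj R) := inferInstanceAs (Epi (cokernel.π _))

/-- The section attached to a morphism out of `CZ R`. -/
def secTop {M : X.Modules} (φ : CZ R ⟶ M) : Γ(M, ⊤) := (proj R ≫ φ).app ⊤ (1 : Γ(X, ⊤))

theorem secTop_comp {M N : X.Modules} (φ : CZ R ⟶ M) (ψ : M ⟶ N) :
    secTop R (φ ≫ ψ) = ψ.app ⊤ (secTop R φ) := rfl

theorem secTop_injective {M : X.Modules} {φ ψ : CZ R ⟶ M} (h : secTop R φ = secTop R ψ) : φ = ψ :=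
  (cancel_epi (proj R)).1 (hom_ext_one h)

theorem rs_image_eq_zero_iff {M : X.Modules} (m : Γ(M, ⊤)) :
    rs M (le_top : R.ι ''ᵁ ⊤ ≤ ⊤) m = 0 ↔ rs M (le_top : R ≤ ⊤) m = 0 := by
  constructor <;> intro h
  · rw [← rs_rs M (le_top : R.ι ''ᵁ ⊤ ≤ ⊤) (Scheme.Opens.ι_image_top R).ge m, h]
    exact map_zero _
  · rw [← rs_rs M (le_top : R ≤ ⊤) (Scheme.Opens.ι_image_top R).le m, h]
    exact map_zero _

theorem rs_secTop {M : X.Modules} (φ : CZ R ⟶ M) : rs M (le_top : R ≤ ⊤) (secTop R φ) = 0 := by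
  refine (rs_image_eq_zero_iff R _).1 ?_
  have h := congr(($(cokernel.condition (extι R)) ≫ φ).app (R.ι ''ᵁ ⊤) (genSec R))
  rw [Category.assoc, zero_comp] at h
  refine Eq.trans ?_ (h.trans rfl)
  show _ = (proj R ≫ φ).app _ ((extι R).app _ (genSec R))
  rw [extι_genSec, Groth.L17.LocCx.app_rs]
  rfl

theorem exists_secTop {M : X.Modules} (m : Γ(M, ⊤)) (hm : rs M (le_top : R ≤ ⊤) m = 0) :
    ∃ φ : CZ R ⟶ M, secTop R φ = m := by
  let ψ : Coh.structureModule X ⟶ M := Groth.L16.homOfSection M m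
  have hψ : ψ.app ⊤ (1 : Γ(X, ⊤)) = m :=
    (Groth.L16.homOfSection_app M m ⊤ (1 : Γ(X, ⊤))).trans ((one_smul _ _).trans (rs_self M _ m))
  refine ⟨cokernel.desc _ ψ (Groth.L29.LocNoeth.hom_ext_gen ?_), ?_⟩
  · show ψ.app _ ((extι R).app _ (genSec R)) = _
    rw [extι_genSec, Groth.L17.LocCx.app_rs, hψ, (rs_image_eq_zero_iff R m).2 hm]
    try rfl
  · rw [secTop, proj, cokernel.π_desc, hψ]

/-- The tautological section of `CZ R`. -/
def oneZ : LocCohZ.sectZM X (CZ R) R := ⟨secTop R (𝟙 _), rs_secTop R (𝟙 _)⟩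

/-- `ℤ/ℤ_R ⟶ CZ R`. -/
def uCZ : LocCohZ.zq (X := X.carrier) (le_top : R ≤ ⊤) ⟶ (tF X).obj (CZ R) :=
  Ext.addEquiv₀ ((LocCohZ.sect0Equiv (X := X.carrier) (Coh.toAb (CZ R)) (le_top : R ≤ ⊤)).symm (oneZ R))

theorem sect0_uCZ {M : X.Modules} (φ : CZ R ⟶ M) :
    (LocCohZ.sect0Equiv (X := X.carrier) (Coh.toAb M) (le_top : R ≤ ⊤)
      (Ext.addEquiv₀.symm (uCZ R ≫ (tF X).map φ))).1 = secTop R φ := by
  change CohFree.evalGen (Opens.grothendieckTopology X.carrier) ⊤ (Coh.toAb M)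
    (cokernel.π _ ≫ Ext.addEquiv₀ (Ext.addEquiv₀.symm (uCZ R ≫ (tF X).map φ))) = _
  rw [AddEquiv.apply_symm_apply, ← Category.assoc]
  have h : CohFree.evalGen (Opens.grothendieckTopology X.carrier) ⊤ (Coh.toAb (CZ R))
      (cokernel.π _ ≫ uCZ R) = secTop R (𝟙 _) :=
    congrArg Subtype.val ((LocCohZ.sect0Equiv (X := X.carrier) (Coh.toAb (CZ R)) (le_top : R ≤ ⊤)).apply_symm_apply
      (oneZ R))
  change φ.app ⊤ (CohFree.evalGen (Opens.grothendieckTopology X.carrier) ⊤ (Coh.toAb (CZ R))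
    (cokernel.π _ ≫ uCZ R)) = _
  rw [h, ← secTop_comp, Category.id_comp]

theorem bijective_uCZ (M : X.Modules) :
    Function.Bijective fun φ : CZ R ⟶ M => uCZ R ≫ (tF X).map φ := by
  refine ⟨fun φ ψ h => secTop_injective R ?_, fun v => ?_⟩
  · rw [← sect0_uCZ, ← sect0_uCZ]
    exact congrArg (fun z => (LocCohZ.sect0Equiv (X := X.carrier) (Coh.toAb M) (le_top : R ≤ ⊤)
      (Ext.addEquiv₀.symm z)).1) h
  · let s := LocCohZ.sect0Equiv (X := X.carrier) (Coh.toAb M) (le_top : R ≤ ⊤) (Ext.addEquiv₀.symm v)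
    obtain ⟨φ, hφ⟩ := exists_secTop R s.1 s.2
    refine ⟨φ, Ext.addEquiv₀.symm.injective ((LocCohZ.sect0Equiv (X := X.carrier) (Coh.toAb M)
      (le_top : R ≤ ⊤)).injective (Subtype.ext ?_))⟩
    exact (sect0_uCZ R φ).trans hφ

/-- `Ext^i(CZ R, M)` is the local cohomology `H^i_Z(X, M)`, `Z = X ∖ R`. -/
theorem bijective_cmpZ [HasExt.{u} X.Modules] (i : ℕ) (M : X.Modules) :
    Function.Bijective (cmp (tF X) (uCZ R) M i) := by
  haveI := Groth.L00.Tensor.grothendieckAbelian_modules X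
  exact bijective_cmp _ _ (bijective_uCZ R) (fun J _ n =>
    Groth.L04.SupportSh.subsingleton_HZ_of_flasque (X := X.carrier) _ (Groth.L17.PushMV.isFlasque_of_injective J)
      (le_top : R ≤ ⊤) n) i M

/-- The comparison with local cohomology is natural in the module. -/
theorem cmpZ_natural [HasExt.{u} X.Modules] {M N : X.Modules} (g : M ⟶ N) (i : ℕ) (x : Ext.{u} (CZ R) M i) :
    cmp (tF X) (uCZ R) N i (x.comp (Ext.mk₀ g) (add_zero i)) =
      LocCohZ.map (X := X.carrier) ((SheafOfModules.toSheaf X.ringCatSheaf).map g) i (le_top : R ≤ ⊤)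
        (cmp (tF X) (uCZ R) M i x) :=
  cmp_comp_mk₀ _ _ x g

section Pullback

variable {Y : Scheme.{u}} (f : Y ⟶ X)

theorem rs_push {M : Y.Modules} (m : Γ(M, ⊤)) :
    rs ((Scheme.Modules.pushforward f).obj M) (le_top : R ≤ ⊤) (show Γ((Scheme.Modules.pushforward f).obj M, ⊤) from m)
      = rs M (le_top : f ⁻¹ᵁ R ≤ ⊤) m := rfl

/-- Sections with supports pull back. -/
theorem nonempty_pullback_CZ :
    Nonempty ((Scheme.Modules.pullback f).obj (CZ R) ≅ CZ (f ⁻¹ᵁ R)) := by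
  let adj := Scheme.Modules.pullbackPushforwardAdjunction f
  -- the section attached to a morphism out of the pullback
  let sec : ∀ {M : Y.Modules}, ((Scheme.Modules.pullback f).obj (CZ R) ⟶ M) → Γ(M, ⊤) :=
    fun {M} φ => (secTop R (adj.homEquiv _ _ φ) : Γ((Scheme.Modules.pushforward f).obj M, ⊤))
  have sec_comp : ∀ {M N : Y.Modules} (φ : (Scheme.Modules.pullback f).obj (CZ R) ⟶ M) (g : M ⟶ N),
      sec (φ ≫ g) = g.app ⊤ (sec φ) := fun {M N} φ g => by
    change secTop R (adj.homEquiv _ _ (φ ≫ g)) = _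
    rw [adj.homEquiv_naturality_right]
    rfl
  have sec_inj : ∀ {M : Y.Modules} {φ ψ : (Scheme.Modules.pullback f).obj (CZ R) ⟶ M},
      sec φ = sec ψ → φ = ψ := fun h => (adj.homEquiv _ _).injective (secTop_injective R h)
  obtain ⟨b, hb⟩ := exists_secTop (f ⁻¹ᵁ R) (sec (𝟙 ((Scheme.Modules.pullback f).obj (CZ R))))
    ((rs_push R f _).symm.trans (rs_secTop R _))
  obtain ⟨a', ha'⟩ := exists_secTop R
    (M := (Scheme.Modules.pushforward f).obj (CZ (f ⁻¹ᵁ R))) (secTop (f ⁻¹ᵁ R) (𝟙 _))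
    ((rs_push R f _).trans (rs_secTop (f ⁻¹ᵁ R) (𝟙 _)))
  let a := (adj.homEquiv _ _).symm a'
  have ha : sec a = secTop (f ⁻¹ᵁ R) (𝟙 _) := by
    change secTop R (adj.homEquiv _ _ a) = _
    rw [Equiv.apply_symm_apply, ha']
  refine ⟨⟨a, b, sec_inj ?_, secTop_injective _ ?_⟩⟩
  · rw [sec_comp, ha, ← secTop_comp, Category.id_comp, hb]
  · rw [secTop_comp, hb, ← sec_comp, Category.id_comp, ha]

end Pullback

section Flat

open Groth.L29.LocNoeth (st st_comp st_germ subsingleton_stalk_gen)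

/-- `CZ R` is flat. -/
theorem isFlat_CZ : FlatMod.IsFlat (CZ R) := fun y => by
  show Module.Flat (X.presheaf.stalk y) ((CZ R).presheaf.stalk y)
  haveI : Epi ((Groth.L00.Stk.F X y).map (proj R)) := inferInstance
  have hsurj : Function.Surjective (st (proj R) y) := (ModuleCat.epi_iff_surjective _).1
    (inferInstance : Epi ((Groth.L00.Stk.F X y).map (proj R)))
  by_cases hy : y ∈ R
  · have : Subsingleton ((CZ R).presheaf.stalk y) := by
      refine subsingleton_of_forall_eq 0 fun z => ?_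
      obtain ⟨c, rfl⟩ := hsurj z
      obtain ⟨V, hyV, s, rfl⟩ := (Coh.structureModule X).presheaf.exists_germ_eq (x := y) c
      rw [st_germ, Groth.L16.hom_app_eq_smul (proj R) V s]
      erw [Groth.L20.ModStalk.germ_smul (CZ R)]
      have h0 : (CZ R).presheaf.germ V y hyV (rs (CZ R) (le_top : V ≤ ⊤) ((proj R).app ⊤ (1 : Γ(X, ⊤)))) = 0 := by
        rw [Groth.L20.ModStalk.germ_rs (CZ R) (le_top : V ≤ ⊤) hyV,
          ← Groth.L20.ModStalk.germ_rs (CZ R) (le_top : R ≤ ⊤) hy]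
        refine (congrArg _ ?_).trans (map_zero _)
        have h1 := rs_secTop R (𝟙 (CZ R))
        rwa [secTop, Category.comp_id] at h1
      exact (congrArg _ h0).trans (smul_zero _)
    infer_instance
  · haveI : Subsingleton ((gen R).presheaf.stalk y) :=
      subsingleton_stalk_gen (fun h => hy ((Scheme.Opens.ι_image_top R).le h))
    have hinj : Function.Injective (st (proj R) y) := by
      have hex : ((ShortComplex.mk (extι R) (cokernel.π (extι R)) (cokernel.condition _)).map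
          (Groth.L00.Stk.F X y)).Exact :=
        (ShortComplex.exact_of_g_is_cokernel _ (cokernelIsCokernel (extι R))).map _
      rw [ShortComplex.moduleCat_exact_iff] at hex
      rw [injective_iff_map_eq_zero]
      intro c hc
      obtain ⟨b, rfl⟩ := hex c hc
      exact (congrArg _ ((Subsingleton.elim (α := (gen R).presheaf.stalk y) b 0))).trans (map_zero _)
    haveI : Module.Flat (X.presheaf.stalk y) ((Coh.structureModule X).presheaf.stalk y) :=
      Groth.L29.DC.isFlat_structureModule X y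
    exact Module.Flat.of_linearEquiv (LinearEquiv.ofBijective (st (proj R) y) ⟨hinj, hsurj⟩).symm

end Flat

end Groth.L17.LocDual
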