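import Groth.Agent.L00.ExtEfface
import Mathlib.Algebra.Homology.DerivedCategory.Ext.EnoughInjectives

/-!
# Comparing `Ext` groups along an exact functor and a class of degree zero
-/

set_option autoImplicit false
set_option backward.isDefEq.respectTransparency false
set_option backward.isDefEq.respectTransparency.types false
set_option linter.style.haveILetI false

universe w v u w' v' u'

open CategoryTheory CategoryTheory.Limits CategoryTheory.Abelian

namespace Groth.L17.LocDual

variable {A : Type u} [Category.{v} A] [Abelian A] [HasExt.{w} A]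
  {B : Type u'} [Category.{v'} B] [Abelian B] [HasExt.{w'} B]
  (G : A ⥤ B) [G.Additive] [PreservesFiniteLimits G] [PreservesFiniteColimits G]
  {P : A} {Q : B} (u : Q ⟶ G.obj P)

/-- `x ↦ u ≫ G(x)`. -/
noncomputable def cmp (M : A) (n : ℕ) : Ext.{w} P M n →+ Ext.{w'} Q (G.obj M) n :=
  ((Ext.mk₀ u).precomp _ (zero_add n)).comp (G.mapExtAddHom P M n)

theorem cmp_apply {M : A} {n : ℕ} (x : Ext.{w} P M n) :
    cmp G u M n x = (Ext.mk₀ u).comp (x.mapExactFunctor G) (zero_add n) := rfl

theorem cmp_comp {M N : A} {m k n : ℕ} (x : Ext.{w} P M m) (y : Ext.{w} M N k) (h : m + k = n) :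
    cmp G u N n (x.comp y h) = (cmp G u M m x).comp (y.mapExactFunctor G) h := by
  rw [cmp_apply, cmp_apply, Ext.mapExactFunctor_comp]
  exact (Ext.comp_assoc _ _ _ (zero_add m) h (by omega)).symm

theorem cmp_comp_mk₀ {M N : A} {n : ℕ} (x : Ext.{w} P M n) (g : M ⟶ N) :
    cmp G u N n (x.comp (Ext.mk₀ g) (add_zero n)) =
      (cmp G u M n x).comp (Ext.mk₀ (G.map g)) (add_zero n) := by
  rw [cmp_comp, Ext.mapExactFunctor_mk₀]

theorem cmp_mk₀ {M : A} (φ : P ⟶ M) : cmp G u M 0 (Ext.mk₀ φ) = Ext.mk₀ (u ≫ G.map φ) := by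
  rw [cmp_apply, Ext.mapExactFunctor_mk₀, Ext.mk₀_comp_mk₀]

/-- If the comparison is bijective in degree zero and injective objects are acyclic downstairs, it is bijective in
every degree. -/
theorem bijective_cmp [EnoughInjectives A] (h0 : ∀ M : A, Function.Bijective (fun φ : P ⟶ M => u ≫ G.map φ))
    (he : ∀ (J : A) [Injective J] (n : ℕ), Subsingleton (Ext.{w'} Q (G.obj J) (n + 1))) :
    ∀ (n : ℕ) (M : A), Function.Bijective (cmp G u M n) := by
  intro n
  induction n with
  | zero =>
    intro M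
    refine (Function.Bijective.of_comp_iff _ (Ext.mk₀_bijective P M)).1 ?_
    rw [show cmp G u M 0 ∘ Ext.mk₀ = Ext.mk₀ ∘ (fun φ : P ⟶ M => u ≫ G.map φ) from funext fun φ => cmp_mk₀ G u φ]
    exact (Ext.mk₀_bijective _ _).comp (h0 M)
  | succ n ih =>
    intro M
    let S := ShortComplex.mk (Injective.ι M) (cokernel.π (Injective.ι M)) (cokernel.condition _)
    have hS : S.ShortExact := { exact := ShortComplex.exact_of_g_is_cokernel _ (cokernelIsCokernel _) }
    haveI : Injective S.X₂ := inferInstanceAs (Injective (Injective.under M))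
    have hS' := hS.map_of_exact G
    have hext : ∀ z : Ext.{w} P S.X₃ n, cmp G u S.X₁ (n + 1) (z.comp hS.extClass rfl) =
        (cmp G u S.X₃ n z).comp hS'.extClass rfl := fun z => by
      rw [cmp_comp, Ext.mapExactFunctor_extClass G hS]
    constructor
    · rw [injective_iff_map_eq_zero]
      intro x hx
      obtain ⟨z, rfl⟩ := Ext.covariant_sequence_exact₁ P hS x (Ext.eq_zero_of_injective _) rfl
      rw [hext] at hx
      obtain ⟨t, ht⟩ := Ext.covariant_sequence_exact₃ Q hS' _ rfl hx
      obtain ⟨t', rfl⟩ := (ih S.X₂).2 t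
      have hz : t'.comp (Ext.mk₀ S.g) (add_zero n) = z := (ih S.X₃).1 (by rw [cmp_comp_mk₀]; exact ht)
      rw [← hz, Ext.comp_assoc_of_second_deg_zero, hS.comp_extClass, Ext.comp_zero]
    · intro y
      haveI : Subsingleton (Ext.{w'} Q (S.map G).X₂ (n + 1)) := he S.X₂ n
      obtain ⟨z, rfl⟩ := Ext.covariant_sequence_exact₁ Q hS' y (Subsingleton.elim _ _) rfl
      obtain ⟨z', rfl⟩ := (ih S.X₃).2 z
      exact ⟨z'.comp hS.extClass rfl, hext z'⟩

variable {G} {G' : A ⥤ B} [G'.Additive] [PreservesFiniteLimits G'] [PreservesFiniteColimits G']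

/-- A natural transformation of exact functors is natural on `Ext`. -/
theorem mapExactFunctor_natTrans (α : G ⟶ G') : ∀ (n : ℕ) {M N : A} (x : Ext.{w} M N n),
    (x.mapExactFunctor G).comp (Ext.mk₀ (α.app N)) (add_zero n) =
      (Ext.mk₀ (α.app M)).comp (x.mapExactFunctor G') (zero_add n) := by
  intro n
  induction n with
  | zero =>
    intro M N x
    obtain ⟨φ, rfl⟩ := (Ext.mk₀_bijective M N).2 x
    rw [Ext.mapExactFunctor_mk₀, Ext.mapExactFunctor_mk₀, Ext.mk₀_comp_mk₀, Ext.mk₀_comp_mk₀, α.naturality]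
  | succ n ih =>
    intro M N x
    obtain ⟨M', p, hp, hpx⟩ := Groth.L00.ExtEfface.exists_epi (Nat.le_add_left 1 n) x
    have hS : (ShortComplex.mk (kernel.ι p) p (kernel.condition p)).ShortExact :=
      { exact := ShortComplex.exact_kernel p }
    obtain ⟨z, rfl⟩ := Ext.contravariant_sequence_exact₃ hS N x hpx (show 1 + n = n + 1 by omega)
    have h := ShortComplex.ShortExact.extClass_naturality (hS.map_of_exact G) (hS.map_of_exact G')
      ((ShortComplex.mk (kernel.ι p) p (kernel.condition p)).mapNatTrans α)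
    rw [Ext.mapExactFunctor_comp, Ext.mapExactFunctor_comp, Ext.mapExactFunctor_extClass G hS,
      Ext.mapExactFunctor_extClass G' hS]
    refine ((Ext.comp_assoc_of_third_deg_zero _ _ _ (show 1 + n = n + 1 by omega)).trans ?_)
    refine (congrArg (fun e => (hS.map_of_exact G).extClass.comp e (show 1 + n = n + 1 by omega)) (ih z)).trans ?_
    refine (Ext.comp_assoc_of_second_deg_zero (hS.map_of_exact G).extClass (Ext.mk₀ (α.app (kernel p)))
      (z.mapExactFunctor G') (show 1 + n = n + 1 by omega)).symm.trans ?_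
    refine (congrArg (fun e => Ext.comp e (z.mapExactFunctor G') (show 1 + n = n + 1 by omega)) h).trans ?_
    exact Ext.comp_assoc (a₁₂ := 1) (a₂₃ := n + 1) (Ext.mk₀ (α.app M)) (hS.map_of_exact G').extClass
      (z.mapExactFunctor G') (zero_add 1) (show 1 + n = n + 1 by omega) (show 0 + 1 + n = n + 1 by omega)

end Groth.L17.LocDual
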