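import Groth.Agent.L17.LocDual.ExtCmp
import Groth.Agent.L17.Duality
import Groth.Agent.L17.BC.TensorA
import Groth.Agent.L16.Existence.Twist
import Groth.Agent.L20.ResDescent
import Groth.Agent.L22.PDual.TwistExt
import Groth.Agent.L29.DCoh.TensorAssoc
import Groth.Agent.L08.Cube.Inverse
import Groth.Agent.L10.TopDual.Main
import Groth.Prelude.Def_DCoh4

/-!
# `Ext` out of a dual module is the cohomology of the twist
-/

set_option autoImplicit false
set_option backward.defeqAttrib.useBackward true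
set_option backward.isDefEq.respectTransparency false
set_option backward.isDefEq.respectTransparency.types false
set_option linter.style.haveILetI false
set_option linter.unusedSectionVars false

universe u

open CategoryTheory CategoryTheory.Limits CategoryTheory.Abelian AlgebraicGeometry
open Groth.L00.Tensor
open Groth.L16.CohLinear (hmap)
open Groth.L21.CurveDual (ev ev_natural)

noncomputable section

namespace Groth.L17.LocDual

variable {X : Scheme.{u}}

/-- `tensorBi.obj L` is `L ⊗ -`. -/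
def leftBiIso (L : X.Modules) : tensorLeftF L ≅ (DCoh.tensorBi (X := X)).obj L :=
  NatIso.ofComponents (fun _ => Iso.refl _) (fun f => by
    simp only [Iso.refl_hom, Category.comp_id, Category.id_comp]
    exact (Groth.L29.DC.Assoc.obj_map_eq L f).symm)

/-- `- ⊗ b` as a natural transformation. -/
def whiskerT {D D' : X.Modules} (b : D ⟶ D') : tensorRightF D ⟶ tensorRightF D' where
  app M := tensorMap (𝟙 M) b
  naturality M N f := by
    show tensorMap f (𝟙 D) ≫ tensorMap (𝟙 N) b = tensorMap (𝟙 M) b ≫ tensorMap f (𝟙 D')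
    rw [← tensorMap_comp, ← tensorMap_comp, Category.comp_id, Category.id_comp, Category.id_comp,
      Category.comp_id]

theorem nonempty_sheafHom_iso_dual (L : X.Modules) [DCoh.HasSheafHom L]
    [ModSite.HasSheafHom (O := X.sheaf) L] :
    Nonempty ((DCoh.sheafHom L).obj (Coh.structureModule X) ≅ Groth.L17.Duality.dual L) :=
  ⟨(((DCoh.sheafHomAdj L).ofNatIsoLeft ((leftBiIso L).symm ≪≫ (tensorFlipIso L).symm ≪≫
    Groth.L17.ChangeRings.tensorRightBiIso L)).rightAdjointUniq
      (ModSite.sheafHomAdj (O := X.sheaf) L)).app _⟩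

theorem bijective_precomp_iso [HasExt.{u} X.Modules] {M M' : X.Modules} (c : M' ⟶ M) [IsIso c]
    (N : X.Modules) (j : ℕ) :
    Function.Bijective ((Ext.mk₀ c).precomp N (zero_add j) : Ext.{u} M N j → Ext.{u} M' N j) :=
  Function.bijective_iff_has_inverse.2 ⟨fun x => (Ext.mk₀ (inv c)).comp x (zero_add j),
    fun x => by simp, fun x => by simp⟩

theorem bijective_postcomp_iso [HasExt.{u} X.Modules] {M M' : X.Modules} (c : M ⟶ M') [IsIso c]
    (N : X.Modules) (j : ℕ) :
    Function.Bijective ((Ext.mk₀ c).postcomp N (add_zero j) : Ext.{u} N M j → Ext.{u} N M' j) :=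
  Function.bijective_iff_has_inverse.2 ⟨fun x => x.comp (Ext.mk₀ (inv c)) (add_zero j),
    fun x => by simp, fun x => by simp⟩

section Linear

variable {A : Type u} [CommRing A] [X.Over (Spec (CommRingCat.of A))]

theorem tensorRightF_smul_id (L M : X.Modules) (c : A) :
    (tensorRightF L).map (c • 𝟙 M) = c • 𝟙 ((tensorRightF L).obj M) := by
  rw [KLin.smul_id, KLin.smul_id]
  refine Eq.trans ?_ (Groth.L17.BC.TensorA.tensor_smulModΓ L M _)
  refine congrArg (shf X).map ?_
  exact (congrArg (fun k => MonoidalCategoryStruct.tensorHom ((preF X).map _) k)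
    ((preF X).map_id L)).trans (MonoidalCategory.tensorHom_id _ _)

variable [HasExt.{u} X.Modules]

set_option maxHeartbeats 800000 in
/-- `Ext^j(L^∨, Ω) = H^j(X, Ω ⊗ L)`, linearly. -/
theorem exists_dual_twist_equiv (L : X.Modules) (hL : FlatMod.IsFinLocFree L) [DCoh.HasSheafHom L]
    (Ω : X.Modules) (j : ℕ) :
    Nonempty (Ext.{u} ((DCoh.sheafHom L).obj (Coh.structureModule X)) Ω j ≃ₗ[A]
      Coh.HH X (CohB1.tensorMod Ω L) j) := by
  haveI := Groth.L00.Tensor.grothendieckAbelian_modules X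
  haveI := Groth.L17.Duality.hasSheafHom L
  obtain ⟨e0⟩ := nonempty_sheafHom_iso_dual L
  let adj := Groth.L17.Duality.dualAdj L hL
  let G := tensorRightF L
  haveI : G.IsRightAdjoint := adj.isRightAdjoint
  haveI : PreservesFiniteLimits G := inferInstance
  haveI : G.Additive := Functor.additive_of_preserves_binary_products G
  haveI : PreservesFiniteColimits G :=
    haveI : PreservesColimitsOfSize.{0, 0} G := preservesColimitsOfSize_shrink.{0, u, 0, u} _
    inferInstance
  let P := (tensorRightF (Groth.L17.Duality.dual L)).obj (Coh.structureModule X)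
  let w : Coh.structureModule X ⟶ G.obj P := adj.unit.app _
  let c : P ≅ (DCoh.sheafHom L).obj (Coh.structureModule X) := tensorUnitLeft _ ≪≫ e0.symm
  have hb : ∀ Ω' : X.Modules, Function.Bijective (cmp G w Ω' j : Ext.{u} P Ω' j → _) := fun Ω' =>
    bijective_cmp G w (fun M => by
      have h := (adj.homEquiv (Coh.structureModule X) M).bijective
      rwa [show (fun φ : P ⟶ M => w ≫ G.map φ) = ⇑(adj.homEquiv (Coh.structureModule X) M) from
        funext fun φ => (adj.homEquiv_unit ..).symm]) (fun J _ n => by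
      haveI := Groth.L17.Duality.injective_tensorRight L hL J
      exact subsingleton_of_forall_eq 0 fun x => Ext.eq_zero_of_injective x) j Ω'
  let T : ∀ Ω' : X.Modules, Ext.{u} ((DCoh.sheafHom L).obj (Coh.structureModule X)) Ω' j →+
      Coh.HH X (CohB1.tensorMod Ω' L) j := fun Ω' =>
    (ev (G.obj Ω') j).comp ((cmp G w Ω' j).comp ((Ext.mk₀ c.hom).precomp Ω' (zero_add j)))
  have hTnat : ∀ (Ω' Ω'' : X.Modules) (g : Ω' ⟶ Ω'') (x), T Ω'' (x.comp (Ext.mk₀ g) (add_zero j)) =
      hmap (G.map g) j (T Ω' x) := fun Ω' Ω'' g x => by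
    refine (congrArg (fun z => ev (G.obj Ω'') j (cmp G w Ω'' j z))
      (Ext.comp_assoc_of_third_deg_zero (Ext.mk₀ c.hom) x (Ext.mk₀ g) (zero_add j)).symm).trans ?_
    refine (congrArg (ev (G.obj Ω'') j) (cmp_comp_mk₀ G w _ g)).trans ?_
    exact ev_natural (G.map g) j _
  have hT : Function.Bijective (T Ω) :=
    ((Groth.L10.TopDual.ev_bijective j _).comp (hb Ω)).comp
      (bijective_precomp_iso c.hom Ω j)
  refine ⟨LinearEquiv.ofBijective
    ⟨⟨fun x => T Ω x, fun a b => map_add (T Ω) a b⟩, fun r x => ?_⟩ hT⟩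
  show T Ω (r • x) = r • T Ω x
  rw [Ext.smul_eq_comp_mk₀, hTnat, tensorRightF_smul_id]
  exact Groth.L10.TopDual.hmap_smul_id _ r j _

end Linear

section Contraction

/-- `(Ω ⊗ L) ⊗ D ⟶ Ω` from `L ⊗ D ⟶ O`. -/
def contr {L D : X.Modules} (Ω : X.Modules) (ε : CohB1.tensorMod L D ⟶ Coh.structureModule X) :
    (tensorRightF D).obj (CohB1.tensorMod Ω L) ⟶ Ω :=
  (tensorAssoc Ω L D).hom ≫ tensorMap (𝟙 Ω) ε ≫ (tensorUnitRight Ω).hom

theorem isIso_contr {L D : X.Modules} (Ω : X.Modules) (ε : CohB1.tensorMod L D ⟶ Coh.structureModule X)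
    [IsIso ε] : IsIso (contr Ω ε) := by
  haveI : IsIso (tensorMap (𝟙 Ω) ε) := inferInstanceAs (IsIso ((tensorLeftF Ω).map ε))
  unfold contr
  exact inferInstance

theorem contr_natural {L₁ L₂ D₁ D₂ : X.Modules} (Ω : X.Modules)
    (ε₁ : CohB1.tensorMod L₁ D₁ ⟶ Coh.structureModule X) (ε₂ : CohB1.tensorMod L₂ D₂ ⟶ Coh.structureModule X)
    (a : L₁ ⟶ L₂) (b : D₂ ⟶ D₁) (h : tensorMap (𝟙 L₁) b ≫ ε₁ = tensorMap a (𝟙 D₂) ≫ ε₂) :
    (whiskerT b).app (CohB1.tensorMod Ω L₁) ≫ contr Ω ε₁ =
      (tensorRightF D₂).map (tensorMap (𝟙 Ω) a) ≫ contr Ω ε₂ := by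
  show tensorMap (𝟙 (CohB1.tensorMod Ω L₁)) b ≫ _ = tensorMap (tensorMap (𝟙 Ω) a) (𝟙 D₂) ≫ _
  rw [← tensorMap_id Ω L₁, contr, contr, ← Category.assoc, Groth.L29.DC.Assoc.assoc_natural, Category.assoc,
    ← Category.assoc (tensorMap (tensorMap (𝟙 Ω) a) (𝟙 D₂)), Groth.L29.DC.Assoc.assoc_natural, Category.assoc,
    ← Category.assoc (tensorMap (𝟙 Ω) (tensorMap (𝟙 L₁) b)), ← tensorMap_comp,
    ← Category.assoc (tensorMap (𝟙 Ω) (tensorMap a (𝟙 D₂))), ← tensorMap_comp, h]

theorem unit_natural {D D' : X.Modules} (b : D ⟶ D') :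
    b ≫ (tensorUnitLeft D').inv = (tensorUnitLeft D).inv ≫ (whiskerT b).app (Coh.structureModule X) := by
  rw [Iso.eq_inv_comp, ← Category.assoc, Iso.comp_inv_eq]
  exact (Groth.L16.Existence.tensorUnitLeft_natural b).symm

variable [HasExt.{u} X.Modules]

/-- `z ↦ (z ⊗ D)` followed by the contraction. -/
def theta {L D : X.Modules} (Ω : X.Modules) (ε : CohB1.tensorMod L D ⟶ Coh.structureModule X)
    [(tensorRightF D).Additive] [PreservesFiniteLimits (tensorRightF D)]
    [PreservesFiniteColimits (tensorRightF D)] (j : ℕ) :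
    Ext.{u} (Coh.structureModule X) (CohB1.tensorMod Ω L) j →+ Ext.{u} D Ω j :=
  ((Ext.mk₀ (contr Ω ε)).postcomp D (add_zero j)).comp
    (cmp (tensorRightF D) (tensorUnitLeft D).inv (CohB1.tensorMod Ω L) j)

theorem theta_natural {L₁ L₂ D₁ D₂ : X.Modules} (Ω : X.Modules)
    [(tensorRightF D₁).Additive] [PreservesFiniteLimits (tensorRightF D₁)]
    [PreservesFiniteColimits (tensorRightF D₁)]
    [(tensorRightF D₂).Additive] [PreservesFiniteLimits (tensorRightF D₂)]
    [PreservesFiniteColimits (tensorRightF D₂)]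
    (ε₁ : CohB1.tensorMod L₁ D₁ ⟶ Coh.structureModule X) (ε₂ : CohB1.tensorMod L₂ D₂ ⟶ Coh.structureModule X)
    (a : L₁ ⟶ L₂) (b : D₂ ⟶ D₁) (h : tensorMap (𝟙 L₁) b ≫ ε₁ = tensorMap a (𝟙 D₂) ≫ ε₂) (j : ℕ)
    (z : Ext.{u} (Coh.structureModule X) (CohB1.tensorMod Ω L₁) j) :
    theta Ω ε₂ j (z.comp (Ext.mk₀ (tensorMap (𝟙 Ω) a)) (add_zero j)) =
      (Ext.mk₀ b).comp (theta Ω ε₁ j z) (zero_add j) := by
  show (cmp (tensorRightF D₂) _ _ j (z.comp _ _)).comp (Ext.mk₀ (contr Ω ε₂)) (add_zero j) =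
    (Ext.mk₀ b).comp ((cmp (tensorRightF D₁) _ _ j z).comp (Ext.mk₀ (contr Ω ε₁)) (add_zero j)) (zero_add j)
  rw [cmp_comp_mk₀, Ext.comp_assoc_of_third_deg_zero, Ext.mk₀_comp_mk₀, ← contr_natural Ω ε₁ ε₂ a b h,
    ← Ext.mk₀_comp_mk₀, ← Ext.comp_assoc_of_third_deg_zero, ← Ext.comp_assoc_of_third_deg_zero]
  refine congrArg (fun w => Ext.comp w (Ext.mk₀ (contr Ω ε₁)) (add_zero j)) ?_
  rw [cmp_apply, cmp_apply, Ext.comp_assoc_of_third_deg_zero, mapExactFunctor_natTrans (whiskerT b),
    Ext.mk₀_comp_mk₀_assoc, Ext.mk₀_comp_mk₀_assoc, unit_natural]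

theorem preserves_of_inverse {L D : X.Modules} (e : CohB1.tensorMod L D ≅ Coh.structureModule X) :
    (tensorRightF D).IsEquivalence ∧ (tensorRightF D).Additive ∧ PreservesFiniteLimits (tensorRightF D) ∧
      PreservesFiniteColimits (tensorRightF D) := by
  haveI : (tensorRightF D).IsEquivalence :=
    Groth.L22.PDual.isEquivalence_tensorRightF (tensorComm D L ≪≫ e)
  haveI : PreservesFiniteLimits (tensorRightF D) := inferInstance
  exact ⟨inferInstance, Functor.additive_of_preserves_binary_products _, inferInstance, inferInstance⟩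

theorem bijective_theta {L D : X.Modules} (Ω : X.Modules) (ε : CohB1.tensorMod L D ⟶ Coh.structureModule X)
    [IsIso ε] [(tensorRightF D).Additive] [PreservesFiniteLimits (tensorRightF D)]
    [PreservesFiniteColimits (tensorRightF D)] (j : ℕ) : Function.Bijective (theta Ω ε j) := by
  haveI := Groth.L00.Tensor.grothendieckAbelian_modules X
  let G := tensorRightF D
  haveI : G.IsEquivalence := (preserves_of_inverse (asIso ε)).1
  haveI := isIso_contr Ω ε
  refine (bijective_postcomp_iso (contr Ω ε) D j).comp (bijective_cmp G _ (fun M => ?_) (fun J _ n => ?_) j _)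
  · refine (?_ : Function.Bijective ((fun f => (tensorUnitLeft D).inv ≫ f) ∘ G.map (X := Coh.structureModule X)))
    exact Function.Bijective.comp ⟨fun f g h => (cancel_epi (tensorUnitLeft D).inv).1 h,
        fun f => ⟨(tensorUnitLeft D).hom ≫ f, Iso.inv_hom_id_assoc _ _⟩⟩
      ((Functor.FullyFaithful.ofFullyFaithful G).map_bijective (Coh.structureModule X) M)
  · haveI : Injective (G.obj J) := Injective.injective_of_adjoint G.asEquivalence.symm.toAdjunction J
    exact subsingleton_of_forall_eq 0 fun x => Ext.eq_zero_of_injective x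

/-- Evaluation on the dual of an invertible module is an isomorphism. -/
theorem isIso_counit {L : X.Modules} (hL : PicF.IsInvertible L) [DCoh.HasSheafHom L] :
    IsIso ((DCoh.sheafHomAdj L).counit.app (Coh.structureModule X)) := by
  obtain ⟨N, -, ⟨e⟩⟩ := Groth.L08.Cube.exists_inverse hL
  haveI := Groth.L16.Existence.isEquivalence L N e
  haveI : ((DCoh.tensorBi (X := X)).obj L).IsEquivalence := Functor.isEquivalence_of_iso (leftBiIso L)
  haveI := (DCoh.sheafHomAdj L).isEquivalence_right_of_isEquivalence_left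
  infer_instance

/-- The defining property of the dual morphism. -/
theorem dualMap_spec {L₁ L₂ : X.Modules} [DCoh.HasSheafHom L₁] [DCoh.HasSheafHom L₂] (a : L₁ ⟶ L₂) :
    tensorMap (𝟙 L₁) ((DCoh.sheafHomAdj L₁).homEquiv ((DCoh.sheafHom L₂).obj (Coh.structureModule X))
        (Coh.structureModule X) ((DCoh.tensorBi.map a).app ((DCoh.sheafHom L₂).obj (Coh.structureModule X)) ≫
          (DCoh.sheafHomAdj L₂).counit.app (Coh.structureModule X))) ≫
        (DCoh.sheafHomAdj L₁).counit.app (Coh.structureModule X) =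
      tensorMap a (𝟙 ((DCoh.sheafHom L₂).obj (Coh.structureModule X))) ≫
        (DCoh.sheafHomAdj L₂).counit.app (Coh.structureModule X) := by
  rw [← Groth.L29.DC.Assoc.obj_map_eq, ← Groth.L29.DC.Assoc.map_app_eq]
  exact ((DCoh.sheafHomAdj L₁).homEquiv_counit ..).symm.trans (Equiv.symm_apply_apply _ _)

end Contraction

end Groth.L17.LocDual
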